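import Mathlib

/-!
# Free pairs in alternating groups: group-theoretic criteria
-/

namespace Cfsg.FreePair2276

open Equiv
open scoped commutatorElement

/-- Two elements that lie in the commutator of every normal subgroup containing them
obstruct solvability. -/
theorem not_isSolvable_of_commutator {G : Type*} [Group G] {x y : G} (hx : x ≠ 1)
    (h : ∀ N : Subgroup G, N.Normal → x ∈ N → y ∈ N → x ∈ ⁅N, N⁆ ∧ y ∈ ⁅N, N⁆) :
    ¬ Group.IsSolvable G := by
  intro hs
  obtain ⟨n, hn⟩ := hs.solvable
  have key : ∀ k, x ∈ derivedSeries G k ∧ y ∈ derivedSeries G k := by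
    intro k
    induction k with
    | zero => simp
    | succ k ih =>
      rw [derivedSeries_succ]
      exact h _ inferInstance ih.1 ih.2
  have := (key n).1
  rw [hn, Subgroup.mem_bot] at this
  exact hx this

/-- The word identities used for two 3-cycles meeting in one point. -/
theorem five_point_words :
    ∀ (x y : Perm (Fin 5)), x = swap 0 1 * swap 1 2 → y = swap 0 3 * swap 3 4 →
      ⁅y * x * y⁻¹, (x⁻¹ * y⁻¹) * x⁻¹ * (x⁻¹ * y⁻¹)⁻¹⁆ = x ∧
      ⁅x * y * x⁻¹, (x * y) * x⁻¹ * (x * y)⁻¹⁆ = y := by
  rintro x y rfl rfl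
  constructor <;> rw [commutatorElement_def] <;> decide +kernel

theorem comm_mem {G : Type*} [Group G] {N : Subgroup G} {x y : G} (hN : N.Normal)
    (hx : x ∈ N) (hy : y ∈ N) (g h : G) :
    ⁅g * x * g⁻¹, h * y * h⁻¹⁆ ∈ ⁅N, N⁆ :=
  Subgroup.commutator_mem_commutator (hN.conj_mem x hx g) (hN.conj_mem y hy h)

/-- If `a, b ∈ H` move exactly one common point `c`, and `c` has period at least three under
both, then `H` is not solvable. -/
theorem not_isSolvable_of_meet {X : Type*} (H : Subgroup (Perm X)) {a b : Perm X}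
    (ha : a ∈ H) (hb : b ∈ H) {c : X}
    (hmeet : ∀ z, a z ≠ z → b z ≠ z → z = c)
    (hac : a c ≠ c) (hbc : b c ≠ c) (haac : a (a c) ≠ c) (hbbc : b (b c) ≠ c) :
    ¬ Group.IsSolvable H := by
  classical
  have hbm : ∀ z, a z ≠ z → z ≠ c → b z = z := fun z h1 h2 => by
    by_contra h; exact h2 (hmeet z h1 h)
  have ham : ∀ z, b z ≠ z → z ≠ c → a z = z := fun z h1 h2 => by
    by_contra h; exact h2 (hmeet z h h1)
  -- the five points
  have a_ac : a (a c) ≠ a c := fun h => hac (a.injective h)
  have b_bc : b (b c) ≠ b c := fun h => hbc (b.injective h)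
  have a_aac : a (a (a c)) ≠ a (a c) := fun h => a_ac (a.injective h)
  have b_bbc : b (b (b c)) ≠ b (b c) := fun h => b_bc (b.injective h)
  have hb_ac : b (a c) = a c := hbm _ a_ac hac
  have hb_aac : b (a (a c)) = a (a c) := hbm _ a_aac haac
  have ha_bc : a (b c) = b c := ham _ b_bc hbc
  have ha_bbc : a (b (b c)) = b (b c) := ham _ b_bbc hbbc
  set x : Perm X := a * b * a⁻¹ * b⁻¹ with hxdef
  set y : Perm X := (a * b) * x * (a * b)⁻¹ with hydef
  have hxmem : x ∈ H := mul_mem (mul_mem (mul_mem ha hb) (inv_mem ha)) (inv_mem hb)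
  have hymem : y ∈ H := mul_mem (mul_mem (mul_mem ha hb) hxmem) (inv_mem (mul_mem ha hb))
  have inv_fix : ∀ (g : Perm X) (z : X), g z = z → g⁻¹ z = z := fun g z h => by
    rw [Perm.inv_eq_iff_eq]; exact h.symm
  -- action of x on the three points
  have hai_c : b (a⁻¹ c) = a⁻¹ c := by
    apply hbm
    · intro h; simp at h; exact hac (by conv_lhs => rw [h]; simp)
    · intro h; apply hac; conv_lhs => rw [← h]; simp
  have hbi_c : a (b⁻¹ c) = b⁻¹ c := by
    apply ham
    · intro h; simp at h; exact hbc (by conv_lhs => rw [h]; simp)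
    · intro h; apply hbc; conv_lhs => rw [← h]; simp
  have xbc : x (b c) = c := by
    simp only [hxdef, Perm.mul_apply, Perm.coe_inv, Equiv.symm_apply_apply]
    rw [show b (a.symm c) = a.symm c from hai_c]; simp
  have xc : x c = a c := by
    simp only [hxdef, Perm.mul_apply]
    rw [inv_fix a _ hbi_c]; simp
  have xac : x (a c) = b c := by
    simp only [hxdef, Perm.mul_apply]
    rw [inv_fix b _ hb_ac]; simp [ha_bc]
  have xfix : ∀ z, z ≠ c → z ≠ a c → z ≠ b c → x z = z := by
    intro z h1 h2 h3
    simp only [hxdef, Perm.mul_apply]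
    by_cases hbz : b z = z
    · rw [inv_fix b _ hbz]
      by_cases haz : a z = z
      · rw [inv_fix a _ haz, hbz, haz]
      · have : b (a⁻¹ z) = a⁻¹ z := by
          apply hbm
          · intro h; simp at h; apply haz; conv_lhs => rw [h]; simp
          · intro h; apply h2; rw [← h]; simp
        rw [this]; simp
    · have haz : a z = z := ham z hbz h1
      have : a (b⁻¹ z) = b⁻¹ z := by
        apply ham
        · intro h; simp at h; apply hbz; conv_lhs => rw [h]; simp
        · intro h; apply h3; rw [← h]; simp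
      rw [inv_fix a _ this]
      simp [haz]
  let f : Fin 5 → X := ![b c, c, a c, a (a c), b (b c)]
  have d01 : b c ≠ c := hbc
  have d02 : b c ≠ a c := fun h => b_bc (by
    calc b (b c) = b (a c) := by rw [h]
      _ = a c := hb_ac
      _ = b c := h.symm)
  have d03 : b c ≠ a (a c) := fun h => b_bc (by
    calc b (b c) = b (a (a c)) := by rw [h]
      _ = a (a c) := hb_aac
      _ = b c := h.symm)
  have d04 : b c ≠ b (b c) := fun h => b_bc h.symm
  have d12 : c ≠ a c := fun h => hac h.symm
  have d13 : c ≠ a (a c) := fun h => haac h.symm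
  have d14 : c ≠ b (b c) := fun h => hbbc h.symm
  have d23 : a c ≠ a (a c) := fun h => a_ac h.symm
  have d24 : a c ≠ b (b c) := fun h => a_ac (by
    calc a (a c) = a (b (b c)) := by rw [h]
      _ = b (b c) := ha_bbc
      _ = a c := h.symm)
  have d34 : a (a c) ≠ b (b c) := fun h => a_aac (by
    calc a (a (a c)) = a (b (b c)) := by rw [h]
      _ = b (b c) := ha_bbc
      _ = a (a c) := h.symm)
  have hf : Function.Injective f := by
    intro i j hij
    fin_cases i <;> fin_cases j <;>
      simp [f, d01, d02, d03, d04, d12, d13, d14, d23, d24, d34, Ne.symm d01, Ne.symm d02,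
        Ne.symm d03, Ne.symm d04, Ne.symm d12, Ne.symm d13, Ne.symm d14, Ne.symm d23,
        Ne.symm d24, Ne.symm d34] at hij ⊢
  let emb : Fin 5 ↪ X := ⟨f, hf⟩
  let φ := Perm.viaEmbeddingHom emb
  set x5 : Perm (Fin 5) := swap 0 1 * swap 1 2 with hx5
  set y5 : Perm (Fin 5) := swap 0 3 * swap 3 4 with hy5
  have hφ : ∀ (s : Perm (Fin 5)) (i : Fin 5), φ s (f i) = f (s i) := fun s i =>
    Perm.viaEmbedding_apply s emb i
  have hφ' : ∀ (s : Perm (Fin 5)) (z : X), (∀ i, f i ≠ z) → φ s z = z := fun s z hz =>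
    Perm.viaEmbedding_apply_of_notMem s emb z (by rintro ⟨i, hi⟩; exact hz i hi)
  have hxe : φ x5 = x := by
    ext z
    by_cases hz : ∃ i, f i = z
    · obtain ⟨i, rfl⟩ := hz
      rw [hφ]
      fin_cases i
      · exact xbc.symm
      · exact xc.symm
      · exact xac.symm
      · exact (xfix _ (Ne.symm d13) (Ne.symm d23) (Ne.symm d03)).symm
      · exact (xfix _ (Ne.symm d14) (Ne.symm d24) (Ne.symm d04)).symm
    · push Not at hz
      rw [hφ' _ _ hz, xfix z (fun h => hz 1 h.symm) (fun h => hz 2 h.symm) (fun h => hz 0 h.symm)]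
  have hye : φ y5 = y := by
    ext z
    have habi : ∀ t, (a * b)⁻¹ (a (b t)) = t := fun t => (a * b).symm_apply_apply t
    by_cases hz : ∃ i, f i = z
    · obtain ⟨i, rfl⟩ := hz
      rw [hφ]
      simp only [hydef, Perm.mul_apply]
      fin_cases i
      · show a (a c) = a (b (x ((a * b)⁻¹ (b c))))
        have : (a * b)⁻¹ (b c) = c := by
          have := habi c; rwa [ha_bc] at this
        rw [this, xc, hb_ac]
      · show c = _
        have key : ∀ t, a (b t) = c → x t = t := by
          intro t ht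
          apply xfix
          · rintro rfl; rw [ha_bc] at ht; exact hbc ht
          · rintro rfl; rw [hb_ac] at ht; exact haac ht
          · rintro rfl; rw [ha_bbc] at ht; exact hbbc ht
        have h2 : a (b ((a * b)⁻¹ c)) = c := (a * b).apply_symm_apply c
        show c = a (b (x ((a * b)⁻¹ c)))
        rw [key _ h2, h2]
      · show a c = _
        have key : ∀ t, a (b t) = a c → x t = t := by
          intro t ht
          apply xfix
          · rintro rfl; rw [ha_bc] at ht; exact d02 ht
          · rintro rfl; rw [hb_ac] at ht; exact a_ac ht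
          · rintro rfl; rw [ha_bbc] at ht; exact d24 ht.symm
        have h2 : a (b ((a * b)⁻¹ (a c))) = a c := (a * b).apply_symm_apply _
        show a c = a (b (x ((a * b)⁻¹ (a c))))
        rw [key _ h2, h2]
      · show b (b c) = a (b (x ((a * b)⁻¹ (a (a c)))))
        have : (a * b)⁻¹ (a (a c)) = a c := by
          have := habi (a c); rwa [hb_ac] at this
        rw [this, xac, ha_bbc]
      · show b c = a (b (x ((a * b)⁻¹ (b (b c)))))
        have : (a * b)⁻¹ (b (b c)) = b c := by
          have := habi (b c); rwa [ha_bbc] at this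
        rw [this, xbc, ha_bc]
    · push Not at hz
      rw [hφ' _ _ hz]
      simp only [hydef, Perm.mul_apply]
      have h2 : a (b ((a * b)⁻¹ z)) = z := (a * b).apply_symm_apply _
      have : x ((a * b)⁻¹ z) = (a * b)⁻¹ z := by
        apply xfix
        · intro h; apply hz 0; rw [← h2, h]; exact ha_bc.symm
        · intro h; apply hz 3; rw [← h2, h, hb_ac]; rfl
        · intro h; apply hz 4; rw [← h2, h]; exact ha_bbc.symm
      rw [this, h2]
  obtain ⟨w1, w2⟩ := five_point_words x5 y5 rfl rfl
  refine not_isSolvable_of_commutator (x := (⟨x, hxmem⟩ : H)) (y := ⟨y, hymem⟩) ?_ ?_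
  · intro h
    have h' : x = 1 := congrArg Subtype.val h
    apply hac
    rw [← xc, h']
    rfl
  · intro N hN hxN hyN
    set xh : H := ⟨x, hxmem⟩
    set yh : H := ⟨y, hymem⟩
    have i1 : ⁅yh * xh * yh⁻¹, (xh⁻¹ * yh⁻¹) * xh⁻¹ * (xh⁻¹ * yh⁻¹)⁻¹⁆ = xh := by
      apply Subtype.ext
      have := congrArg φ w1
      simpa [commutatorElement_def, map_mul, map_inv, hxe, hye, xh, yh] using this
    have i2 : ⁅xh * yh * xh⁻¹, (xh * yh) * xh⁻¹ * (xh * yh)⁻¹⁆ = yh := by
      apply Subtype.ext
      have := congrArg φ w2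
      simpa [commutatorElement_def, map_mul, map_inv, hxe, hye, xh, yh] using this
    constructor
    · have := comm_mem hN hxN (inv_mem hxN) yh (xh⁻¹ * yh⁻¹)
      rwa [i1] at this
    · have := comm_mem hN hyN (inv_mem hxN) xh (xh * yh)
      rwa [i2] at this

/-- A permutation of `p`-power order fixes every point having period prime to `p`. -/
theorem eq_of_iterate_eq {X : Type*} {p k d : ℕ} (hp : p.Prime) {g : Perm X}
    (hg : g ^ p ^ k = 1) {z : X} (hd : (g ^ d) z = z) (hpd : ¬ p ∣ d) : g z = z := by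
  have h1 : Function.IsPeriodicPt g d z := by
    show (⇑g)^[d] z = z
    rw [← Perm.coe_pow]; exact hd
  have h2 : Function.IsPeriodicPt g (p ^ k) z := by
    show (⇑g)^[p ^ k] z = z
    rw [← Perm.coe_pow, hg]; rfl
  have h3 := h1.gcd h2
  have hc : Nat.gcd d (p ^ k) = 1 :=
    ((hp.coprime_iff_not_dvd.mpr hpd).symm).pow_right k
  rw [hc] at h3
  exact h3

end Cfsg.FreePair2276
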