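import Cfsg.Agent.FreePair2276.Setup

/-!
# Free pairs in alternating groups: listing the cycles of a permutation
-/

namespace Cfsg.FreePair2276

set_option linter.unusedSectionVars false

open Equiv

variable {X : Type*} [Fintype X] [DecidableEq X] {p : ℕ} {w : Perm X}

/-- The length of the cycle of `w` through `x`. -/
noncomputable def per (w : Perm X) (x : X) : ℕ := Function.minimalPeriod (⇑w⁻¹) x

/-- The points of the cycle of `w` through `x`. -/
noncomputable def orb (w : Perm X) (x : X) : Finset X :=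
  (Finset.range (per w x)).image fun i => (⇑w⁻¹)^[i] x

theorem per_pos (w : Perm X) (x : X) : 0 < per w x := by
  apply Function.IsPeriodicPt.minimalPeriod_pos (orderOf_pos (w⁻¹ : Perm X))
  show (⇑(w⁻¹ : Perm X))^[orderOf (w⁻¹ : Perm X)] x = x
  rw [← Perm.coe_pow, pow_orderOf_eq_one]; rfl

theorem per_dvd {k : ℕ} (hw : w ^ p ^ k = 1) (x : X) : per w x ∣ p ^ k := by
  apply Function.IsPeriodicPt.minimalPeriod_dvd
  show (⇑(w⁻¹ : Perm X))^[p ^ k] x = x
  rw [← Perm.coe_pow, inv_pow, hw, inv_one]; rfl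

theorem per_le_of_dvd (hp : p.Prime) {k : ℕ} (hw : w ^ p ^ k = 1) {x y : X}
    (h : per w x ≤ per w y) : per w x ∣ per w y := by
  obtain ⟨i, -, hi⟩ := (Nat.dvd_prime_pow hp).1 (per_dvd hw x)
  obtain ⟨j, -, hj⟩ := (Nat.dvd_prime_pow hp).1 (per_dvd hw y)
  rw [hi, hj] at h ⊢
  exact Nat.pow_dvd_pow p ((Nat.pow_le_pow_iff_right hp.one_lt).1 h)

theorem minimalPeriod_eq_per (w : Perm X) (x : X) :
    Function.minimalPeriod (⇑w) x = per w x := by
  have key : ∀ (g : Perm X) (n : ℕ), Function.IsPeriodicPt (⇑g) n x →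
      Function.IsPeriodicPt (⇑g⁻¹) n x := by
    intro g n h
    show (⇑(g⁻¹ : Perm X))^[n] x = x
    rw [← Perm.coe_pow, inv_pow, Perm.inv_eq_iff_eq, Perm.coe_pow]
    exact h.symm
  apply Nat.dvd_antisymm
  · apply Function.IsPeriodicPt.minimalPeriod_dvd
    have := key _ _ (Function.isPeriodicPt_minimalPeriod (⇑w⁻¹) x)
    rwa [inv_inv] at this
  · exact Function.IsPeriodicPt.minimalPeriod_dvd (key _ _ (Function.isPeriodicPt_minimalPeriod (⇑w) x))

theorem iter_injOn (w : Perm X) (x : X) :
    Set.InjOn (fun i => (⇑w⁻¹)^[i] x) (Set.Iio (per w x)) :=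
  Function.iterate_injOn_Iio_minimalPeriod

theorem iter_per (w : Perm X) (x : X) : (⇑w⁻¹)^[per w x] x = x :=
  Function.isPeriodicPt_minimalPeriod _ _

theorem mem_orb_iff {x z : X} : z ∈ orb w x ↔ ∃ i, i < per w x ∧ (⇑w⁻¹)^[i] x = z := by
  simp [orb]

theorem card_orb (w : Perm X) (x : X) : (orb w x).card = per w x := by
  rw [orb, Finset.card_image_of_injOn, Finset.card_range]
  intro a ha b hb h
  exact iter_injOn w x (Finset.mem_range.1 ha) (Finset.mem_range.1 hb) h

theorem self_mem_orb (w : Perm X) (x : X) : x ∈ orb w x :=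
  mem_orb_iff.2 ⟨0, per_pos w x, rfl⟩

theorem iterate_mem_orb (w : Perm X) (x : X) (i : ℕ) : (⇑w⁻¹)^[i] x ∈ orb w x :=
  mem_orb_iff.2 ⟨i % per w x, Nat.mod_lt _ (per_pos w x), Function.iterate_mod_minimalPeriod_eq⟩

theorem mem_orb_of_inv_mem {x z : X} (h : w⁻¹ z ∈ orb w x) : z ∈ orb w x := by
  obtain ⟨i, -, hi⟩ := mem_orb_iff.1 h
  obtain ⟨l, hl⟩ := Nat.exists_eq_succ_of_ne_zero (per_pos w x).ne'
  have : (⇑w⁻¹)^[i + l] x = z := by
    apply (w⁻¹ : Perm X).injective
    rw [← Function.iterate_succ_apply' (⇑w⁻¹), ← hi, show (i + l).succ = i + per w x by omega,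
      Function.iterate_add_apply, iter_per]
  exact this ▸ iterate_mem_orb w x _

/-- A set of points that is a union of cycles. -/
def Inv (w : Perm X) (S : Finset X) : Prop := ∀ z ∈ S, w⁻¹ z ∈ S

theorem Inv.iterate {S : Finset X} (h : Inv w S) {z : X} (hz : z ∈ S) :
    ∀ i : ℕ, (⇑w⁻¹)^[i] z ∈ S
  | 0 => hz
  | i + 1 => by rw [Function.iterate_succ_apply']; exact h _ (Inv.iterate h hz i)

theorem Inv.orb_subset {S : Finset X} (h : Inv w S) {z : X} (hz : z ∈ S) : orb w z ⊆ S := by
  intro y hy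
  obtain ⟨i, -, rfl⟩ := mem_orb_iff.1 hy
  exact h.iterate hz i

theorem Inv.sdiff {S : Finset X} (h : Inv w S) (x : X) : Inv w (S \ orb w x) := by
  intro z hz
  rw [Finset.mem_sdiff] at hz ⊢
  exact ⟨h z hz.1, fun hh => hz.2 (mem_orb_of_inv_mem hh)⟩

theorem card_sdiff_orb {S : Finset X} (h : Inv w S) {x : X} (hx : x ∈ S) :
    (S \ orb w x).card + per w x = S.card := by
  rw [← card_orb w x, Finset.card_sdiff_add_card_eq_card (h.orb_subset hx)]

/-- `E` lists some cycles of `w` lying in `S`, with lengths given by `L`. -/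
structure Blocks (w : Perm X) (L : List ℕ) (E : ℕ → X) (S : Finset X) : Prop where
  inj : Set.InjOn E (Set.Iio L.sum)
  mem : ∀ i, i < L.sum → E i ∈ S
  act : ∀ i, i < L.sum → w (E i) = E (D L i)

theorem Blocks.cons {S : Finset X} (hS : Inv w S) {x : X} (hx : x ∈ S) {L : List ℕ} {E : ℕ → X}
    (h : Blocks w L E (S \ orb w x)) :
    ∃ E', Blocks w (per w x :: L) E' S := by
  set l := per w x with hl
  refine ⟨fun i => if i < l then (⇑w⁻¹)^[i] x else E (i - l), ?_, ?_, ?_⟩
  · intro a ha b hb hab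
    simp only [Set.mem_Iio, List.sum_cons] at ha hb
    dsimp only at hab
    split_ifs at hab with h1 h2 h2
    · exact iter_injOn w x h1 h2 hab
    · exact absurd (hab ▸ iterate_mem_orb w x a)
        (Finset.mem_sdiff.1 (h.mem (b - l) (by omega))).2
    · exact absurd (hab ▸ iterate_mem_orb w x b)
        (Finset.mem_sdiff.1 (h.mem (a - l) (by omega))).2
    · have := h.inj (show a - l < L.sum by omega) (show b - l < L.sum by omega) hab
      omega
  · intro i hi
    simp only [List.sum_cons] at hi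
    split_ifs with h1
    · exact hS.iterate hx i
    · exact (Finset.mem_sdiff.1 (h.mem (i - l) (by omega))).1
  · intro i hi
    simp only [List.sum_cons] at hi
    by_cases h1 : i < l
    · by_cases h0 : i = 0
      · subst h0
        have hD : D (l :: L) 0 = l - 1 := by simp [D, h1]
        simp only [hD, if_pos h1, if_pos (show l - 1 < l by omega)]
        apply (w⁻¹ : Perm X).injective
        rw [← Function.iterate_succ_apply' (⇑w⁻¹), show (l - 1).succ = l by omega, hl, iter_per]
        simp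
      · have hD : D (l :: L) i = i - 1 := by simp [D, h1, h0]
        simp only [hD, if_pos h1, if_pos (show i - 1 < l by omega)]
        apply (w⁻¹ : Perm X).injective
        rw [← Function.iterate_succ_apply' (⇑w⁻¹) (i - 1), show (i - 1).succ = i by omega]
        simp
    · have hD : D (l :: L) i = l + D L (i - l) := by simp [D, h1]
      simp only [hD, if_neg h1, if_neg (show ¬ l + D L (i - l) < l by omega),
        Nat.add_sub_cancel_left]
      exact h.act (i - l) (by omega)

/-- Cycles can be selected to fill up any suitable number of points. -/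
theorem fill (hp : p.Prime) {k : ℕ} (hw : w ^ p ^ k = 1) (x₀ : X) :
    ∀ (T : ℕ) (S : Finset X) (q : ℕ), Inv w S → (∀ x ∈ S, per w x ∣ q) → q ∣ T → T ≤ S.card →
      ∃ L E, L.sum = T ∧ (∀ l ∈ L, ∃ x ∈ S, per w x = l) ∧ Blocks w L E S := by
  intro T
  induction T using Nat.strong_induction_on with
  | _ T ih =>
    intro S q hS hdvd hqT hle
    rcases Nat.eq_zero_or_pos T with rfl | hT
    · exact ⟨[], fun _ => x₀, rfl, by simp,
        ⟨fun a ha => by simp at ha, fun i hi => by simp at hi, fun i hi => by simp at hi⟩⟩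
    · have hne : S.Nonempty := Finset.card_pos.1 (by omega)
      obtain ⟨x, hx, hmax⟩ := Finset.exists_max_image S (per w) hne
      have hlT : per w x ∣ T := (hdvd x hx).trans hqT
      have hl := per_pos w x
      have hle' := Nat.le_of_dvd hT hlT
      have hc := card_sdiff_orb hS hx
      obtain ⟨L, E, hsum, hmem, hB⟩ := ih (T - per w x) (by omega) (S \ orb w x) (per w x)
        (hS.sdiff x) (fun y hy => per_le_of_dvd hp hw (hmax y (Finset.mem_sdiff.1 hy).1))
        (Nat.dvd_sub hlT dvd_rfl) (by omega)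
      obtain ⟨E', hE'⟩ := Blocks.cons hS hx hB
      refine ⟨per w x :: L, E', by simp [hsum]; omega, ?_, hE'⟩
      intro l hl
      rcases List.mem_cons.1 hl with rfl | hl
      · exact ⟨x, hx, rfl⟩
      · obtain ⟨y, hy, h'⟩ := hmem l hl
        exact ⟨y, (Finset.mem_sdiff.1 hy).1, h'⟩

/-- Extend a matching of listed points to a permutation. -/
theorem exists_match {E e : ℕ → X} {M : ℕ} (hE : Set.InjOn E (Set.Iio M))
    (he : Set.InjOn e (Set.Iio M)) : ∃ g : Perm X, ∀ i, i < M → g (E i) = e i := by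
  classical
  let e1 := (hE.bijOn_image).equiv E
  let e2 := (he.bijOn_image).equiv e
  refine ⟨(e1.symm.trans e2).extendSubtype, fun i hi => ?_⟩
  rw [Equiv.extendSubtype_apply_of_mem _ _ ⟨i, hi, rfl⟩]
  have : e1.symm ⟨E i, i, hi, rfl⟩ = ⟨i, hi⟩ := by
    rw [Equiv.symm_apply_eq]; rfl
  simp only [Equiv.trans_apply, this]
  rfl

/-- The product of the first `k` transpositions exchanging two cycles. -/
noncomputable def exch (w : Perm X) (x y : X) : ℕ → Perm X
  | 0 => 1
  | k + 1 => swap ((⇑w⁻¹)^[k] x) ((⇑w⁻¹)^[k] y) * exch w x y k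

/-- Two cycles of the same odd length give an odd element of the centralizer. -/
theorem exists_odd_commute {x y : X} (hxy : y ∉ orb w x) (heq : per w x = per w y)
    (hodd : per w x % 2 = 1) : ∃ h : Perm X, Perm.sign h = -1 ∧ h * w = w * h := by
  set l := per w x with hl
  have hne : ∀ i j, (⇑w⁻¹)^[i] x ≠ (⇑w⁻¹)^[j] y := by
    intro i j h
    apply hxy
    have h1 : (⇑w⁻¹)^[j] y ∈ orb w x := h ▸ iterate_mem_orb w x i
    have key : ∀ j, (⇑w⁻¹)^[j] y ∈ orb w x → y ∈ orb w x := by
      intro j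
      induction j with
      | zero => exact id
      | succ j ih =>
        intro hh
        rw [Function.iterate_succ_apply'] at hh
        exact ih (mem_orb_of_inv_mem hh)
    exact key j h1
  have spec : ∀ k, k ≤ l → Perm.sign (exch w x y k) = (-1) ^ k ∧
      (∀ i, i < l → exch w x y k ((⇑w⁻¹)^[i] x) = if i < k then (⇑w⁻¹)^[i] y else (⇑w⁻¹)^[i] x) ∧
      (∀ i, i < l → exch w x y k ((⇑w⁻¹)^[i] y) = if i < k then (⇑w⁻¹)^[i] x else (⇑w⁻¹)^[i] y) ∧
      (∀ z, z ∉ orb w x → z ∉ orb w y → exch w x y k z = z) := by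
    intro k
    induction k with
    | zero => intro _; simp [exch]
    | succ k ih =>
      intro hk
      obtain ⟨s, h1, h2, h3⟩ := ih (by omega)
      have dx : ∀ i, i < l → i ≠ k → (⇑w⁻¹)^[i] x ≠ (⇑w⁻¹)^[k] x := fun i hi hik h =>
        hik (iter_injOn w x hi (show k < l by omega) h)
      have dy : ∀ i, i < l → i ≠ k → (⇑w⁻¹)^[i] y ≠ (⇑w⁻¹)^[k] y := fun i hi hik h =>
        hik (iter_injOn w y (show i < per w y by omega) (show k < per w y by omega) h)
      refine ⟨?_, ?_, ?_, ?_⟩
      · rw [exch, map_mul, Perm.sign_swap (hne k k), s, pow_succ']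
      · intro i hi
        rw [exch, Perm.mul_apply, h1 i hi]
        rcases lt_trichotomy i k with h | rfl | h
        · rw [if_pos h, if_pos (by omega), swap_apply_of_ne_of_ne (hne k i).symm (dy i hi (by omega))]
        · rw [if_neg (by omega), if_pos (by omega), swap_apply_left]
        · rw [if_neg (by omega), if_neg (by omega),
            swap_apply_of_ne_of_ne (dx i hi (by omega)) (hne i k)]
      · intro i hi
        rw [exch, Perm.mul_apply, h2 i hi]
        rcases lt_trichotomy i k with h | rfl | h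
        · rw [if_pos h, if_pos (by omega), swap_apply_of_ne_of_ne (dx i hi (by omega)) (hne i k)]
        · rw [if_neg (by omega), if_pos (by omega), swap_apply_right]
        · rw [if_neg (by omega), if_neg (by omega),
            swap_apply_of_ne_of_ne (hne k i).symm (dy i hi (by omega))]
      · intro z hzx hzy
        rw [exch, Perm.mul_apply, h3 z hzx hzy,
          swap_apply_of_ne_of_ne (fun (h : z = _) => hzx (h.symm ▸ iterate_mem_orb w x k))
            (fun (h : z = _) => hzy (h.symm ▸ iterate_mem_orb w y k))]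
  obtain ⟨s, h1, h2, h3⟩ := spec l le_rfl
  refine ⟨exch w x y l, by rw [s]; exact Odd.neg_one_pow (Nat.odd_iff.2 hodd), ?_⟩
  have mx : ∀ i, (⇑w⁻¹)^[i % l] x = (⇑w⁻¹)^[i] x := fun i =>
    Function.iterate_mod_minimalPeriod_eq
  have my : ∀ i, (⇑w⁻¹)^[i % l] y = (⇑w⁻¹)^[i] y := fun i => by
    rw [heq]; exact Function.iterate_mod_minimalPeriod_eq
  have full1 : ∀ i, exch w x y l ((⇑w⁻¹)^[i] x) = (⇑w⁻¹)^[i] y := by
    intro i
    have := h1 (i % l) (Nat.mod_lt _ (per_pos w x))
    rwa [if_pos (Nat.mod_lt _ (per_pos w x)), mx, my] at this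
  have full2 : ∀ i, exch w x y l ((⇑w⁻¹)^[i] y) = (⇑w⁻¹)^[i] x := by
    intro i
    have := h2 (i % l) (Nat.mod_lt _ (per_pos w x))
    rwa [if_pos (Nat.mod_lt _ (per_pos w x)), mx, my] at this
  have hcomm : ∀ z, exch w x y l (w⁻¹ z) = w⁻¹ (exch w x y l z) := by
    intro z
    by_cases hzx : z ∈ orb w x
    · obtain ⟨i, -, rfl⟩ := mem_orb_iff.1 hzx
      rw [← Function.iterate_succ_apply' (⇑w⁻¹), full1, full1, Function.iterate_succ_apply']
    · by_cases hzy : z ∈ orb w y
      · obtain ⟨i, -, rfl⟩ := mem_orb_iff.1 hzy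
        rw [← Function.iterate_succ_apply' (⇑w⁻¹), full2, full2, Function.iterate_succ_apply']
      · rw [h3 z hzx hzy, h3 _ (fun h => hzx (mem_orb_of_inv_mem h))
          (fun h => hzy (mem_orb_of_inv_mem h))]
  ext z
  simp only [Perm.mul_apply]
  have := hcomm (w z)
  simp only [Perm.coe_inv, Equiv.symm_apply_apply] at this
  rw [this, Equiv.apply_symm_apply]

/-- If all cycle lengths are powers `p^i < p^a ≤ |X|`, two cycles have the same length. -/
theorem exists_equal_orbits (hp : p.Prime) {k a : ℕ} (hw : w ^ p ^ k = 1)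
    (hlt : ∀ x, per w x < p ^ a) (hn : p ^ a ≤ Fintype.card X) :
    ∃ x y, y ∉ orb w x ∧ per w x = per w y := by
  classical
  by_contra hcon
  push Not at hcon
  set t := (Finset.range a).image fun i => p ^ i with ht
  have hmap : ∀ x ∈ (Finset.univ : Finset X), per w x ∈ t := by
    intro x _
    obtain ⟨i, -, hi⟩ := (Nat.dvd_prime_pow hp).1 (per_dvd hw x)
    refine Finset.mem_image.2 ⟨i, Finset.mem_range.2 ?_, hi.symm⟩
    exact (Nat.pow_lt_pow_iff_right hp.one_lt).1 (hi ▸ hlt x)
  have h1 := Finset.card_eq_sum_card_fiberwise hmap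
  have h2 : ∀ d ∈ t, ((Finset.univ : Finset X).filter fun x => per w x = d).card ≤ d := by
    intro d _
    by_cases he : ((Finset.univ : Finset X).filter fun x => per w x = d).Nonempty
    · obtain ⟨x, hx⟩ := he
      rw [Finset.mem_filter] at hx
      refine le_trans (Finset.card_le_card (t := orb w x) ?_) (by rw [card_orb, hx.2])
      intro y hy
      rw [Finset.mem_filter] at hy
      by_contra h
      exact hcon x y h (hx.2.trans hy.2.symm)
    · simp [Finset.not_nonempty_iff_eq_empty.1 he]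
  have h3 : (Finset.univ : Finset X).card ≤ ∑ d ∈ t, d := h1 ▸ Finset.sum_le_sum h2
  have h4 : ∑ d ∈ t, d = ∑ i ∈ Finset.range a, p ^ i :=
    Finset.sum_image fun i _ j _ h => Nat.pow_right_injective hp.two_le h
  have h5 := Nat.geomSum_lt hp.two_le (s := Finset.range a) (n := a) (by simp)
  rw [Finset.card_univ] at h3
  omega

end Cfsg.FreePair2276
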