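import Cfsg.Agent.FreePair2276.Setup

/-!
# Free pairs in alternating groups: the explicit configurations
-/

namespace Cfsg.FreePair2276

set_option linter.unreachableTactic false
set_option linter.unusedTactic false
set_option maxHeartbeats 1600000

open Equiv
open scoped commutatorElement

variable {X : Type*} {e : ℕ → X} {M : ℕ} {p : ℕ} {u v : Perm X}

theorem mem_u : u ∈ Subgroup.closure ({u, v} : Set (Perm X)) := Subgroup.subset_closure (by simp)
theorem mem_v : v ∈ Subgroup.closure ({u, v} : Set (Perm X)) := Subgroup.subset_closure (by simp)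

/-- Backwards shift by `j` of the index set. -/
def back (M j i : ℕ) : ℕ := if i < j then i + (M - j) else i - j

/-- Forwards shift by `j` of the index set. -/
def fwd (M j i : ℕ) : ℕ := if i + j < M then i + j else i + j - M

/-- Conjugate of an index map by the shift. -/
def sh (M j : ℕ) (A : ℕ → ℕ) (i : ℕ) : ℕ := fwd M j (A (back M j i))

theorem U_eq {i : ℕ} (hi : i < M) : U M i = fwd M 1 i := by
  simp only [U, fwd]
  split_ifs with h
  · exact Nat.mod_eq_of_lt h
  · rw [show i + 1 = M by omega, Nat.mod_self]; simp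

theorem acts_pow_u (hu : Acts e M u (U M)) (j : ℕ) (hj : j ≤ M) :
    Acts e M (u ^ j) (fwd M j) := by
  induction j with
  | zero => intro i hi; simp [fwd, hi]
  | succ j ih =>
    rw [pow_succ']
    refine (hu.mul (ih (by omega))).congr fun i hi => ?_
    have h : fwd M j i < M := by simp only [fwd]; split_ifs <;> first | omega | contradiction
    rw [U_eq h]
    simp only [fwd]; split_ifs <;> first | omega | contradiction

theorem acts_shift (hu : Acts e M u (U M)) {a : Perm X} {A : ℕ → ℕ} (hA : Acts e M a A)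
    (j : ℕ) (hj : j ≤ M) : Acts e M (u ^ j * a * (u ^ j)⁻¹) (sh M j A) := by
  refine ((acts_pow_u hu j hj).mul hA).mul ((acts_pow_u hu j hj).inv (back M j) ?_)
  intro i hi
  simp only [back, fwd]; split_ifs <;> first | omega | contradiction

theorem mem_shift {a : Perm X} (ha : a ∈ Subgroup.closure ({u, v} : Set (Perm X))) (j : ℕ) :
    u ^ j * a * (u ^ j)⁻¹ ∈ Subgroup.closure ({u, v} : Set (Perm X)) :=
  mul_mem (mul_mem (pow_mem mem_u j) ha) (inv_mem (pow_mem mem_u j))

theorem acts_v_exists (c : ℕ → ℕ) (L : List ℕ) (hL : L.sum = M)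
    (hclt : ∀ i, i < M → c i < M) (hsurj : ∀ j, j < M → ∃ i, i < M ∧ c i = j)
    (hv : ∀ i, i < M → v (e (c i)) = e (c (D L i))) : ∃ V, Acts e M v V := by
  classical
  choose g hg using hsurj
  refine ⟨fun j => if h : j < M then c (D L (g j h)) else 0, fun j hj => ?_⟩
  simp only [dif_pos hj]
  obtain ⟨h1, h2⟩ := hg j hj
  refine ⟨hclt _ (hL ▸ D_lt L _ (hL.symm ▸ h1)), ?_⟩
  conv_lhs => rw [← h2]
  exact hv _ h1

/-- A function supported below `m`, extended by the identity, is onto. -/
theorem surj_extend {c : ℕ → ℕ} {m : ℕ} (hc : ∀ i, m ≤ i → c i = i)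
    (hsurj : ∀ j, j < m → ∃ i, i < m ∧ c i = j) (hmM : m ≤ M) :
    ∀ j, j < M → ∃ i, i < M ∧ c i = j := by
  intro j hj
  by_cases h : j < m
  · obtain ⟨i, h1, h2⟩ := hsurj j h; exact ⟨i, by omega, h2⟩
  · exact ⟨j, hj, hc j (by omega)⟩

theorem lt_extend {c : ℕ → ℕ} {m : ℕ} (hc : ∀ i, m ≤ i → c i = i)
    (hclt : ∀ i, i < m → c i < m) (hmM : m ≤ M) : ∀ i, i < M → c i < M := by
  intro i hi
  by_cases h : i < m
  · have := hclt i h; omega
  · rw [hc i (by omega)]; exact hi

theorem back_fwd {j t : ℕ} (ht : t < M) (hj : j ≤ M) : back M j (fwd M j t) = t := by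
  simp only [back, fwd]; split_ifs <;> first | omega | contradiction

theorem fwd_back {j i : ℕ} (hi : i < M) (hj : j ≤ M) : fwd M j (back M j i) = i := by
  simp only [back, fwd]; split_ifs <;> first | omega | contradiction

theorem back_lt {j i : ℕ} (hi : i < M) (hj : j ≤ M) : back M j i < M := by
  simp only [back]; split_ifs <;> first | omega | contradiction

theorem fwd_lt {j i : ℕ} (hi : i < M) (hj : j ≤ M) : fwd M j i < M := by
  simp only [fwd]; split_ifs <;> first | omega | contradiction

theorem sh_fix {j i : ℕ} {A : ℕ → ℕ} (hi : i < M) (hj : j ≤ M)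
    (h : A (back M j i) = back M j i) : sh M j A i = i := by
  rw [sh, h, fwd_back hi hj]

/-- `a` and its shift by `j` meet only in `c`. -/
theorem not_isSolvable_shift (he : Set.InjOn e (Set.Iio M)) {U' V : ℕ → ℕ}
    (hu' : Acts e M u U') (hu : Acts e M u (U M)) (hV : Acts e M v V) {a : Perm X}
    (ha : a ∈ Subgroup.closure ({u, v} : Set (Perm X))) {A : ℕ → ℕ} (hA : Acts e M a A)
    (S : List ℕ) (hS : ∀ i, i < M → i ∉ S → A i = i) (j : ℕ) (hj : j ≤ M) (c t : ℕ)
    (hc : c < M) (ht : t < M) (htc : fwd M j t = c)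
    (hmeet : ∀ s ∈ S, ∀ r ∈ S, fwd M j r = s → s = c)
    (h1 : A c ≠ c) (h2 : A (A c) ≠ c) (h3 : A t ≠ t) (h4 : A (A t) ≠ t) :
    ¬ Group.IsSolvable (Subgroup.closure ({u, v} : Set (Perm X))) := by
  have hAt := (hA t ht).1
  have hAAt := (hA _ hAt).1
  have e1 : sh M j A c = fwd M j (A t) := by rw [← htc, sh, back_fwd ht hj]
  have e2 : sh M j A (sh M j A c) = fwd M j (A (A t)) := by rw [e1, sh, back_fwd hAt hj]
  refine not_isSolvable_of_acts he hu' hV ha (mem_shift ha j) hA (acts_shift hu hA j hj) hc
    ?_ h1 ?_ h2 ?_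
  · intro i hi g1 g2
    have hs : i ∈ S := by by_contra h; exact g1 (hS i hi h)
    have hr : back M j i ∈ S := by
      by_contra h; exact g2 (sh_fix hi hj (hS _ (back_lt hi hj) h))
    exact hmeet i hs _ hr (fwd_back hi hj)
  · rw [e1]
    intro h
    apply h3
    have := congrArg (back M j) (h.trans htc.symm)
    rwa [back_fwd hAt hj, back_fwd ht hj] at this
  · rw [e2]
    intro h
    apply h4
    have := congrArg (back M j) (h.trans htc.symm)
    rwa [back_fwd hAAt hj, back_fwd ht hj] at this

/-! ### A long cycle of `v` -/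

/-- The window rearrangement used for a cycle of length at least five. -/
def cI (i : ℕ) : ℕ := if i = 1 then 3 else if i = 3 then 1 else i

def WI (i : ℕ) : ℕ :=
  if i = 1 then 3 else if i = 3 then 1 else if i = 2 then 4 else if i = 4 then 2 else i

theorem WI_WI (i : ℕ) : WI (WI i) = i := by
  simp only [WI]; split_ifs <;> first | omega | contradiction

theorem good_caseI (he : Set.InjOn e (Set.Iio M)) (hp : p.Prime) (hp2 : p ≠ 2) {l : ℕ}
    (Q : List ℕ) (hl : 5 ≤ l) (hQ : ∀ x ∈ Q, 0 < x) (hQev : Q.length % 2 = 0)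
    (hM : l + Q.sum = M) (hodd : M % 2 = 1) (hu : Acts e M u (U M))
    (hv : ∀ i, i < M → v (e (cI i)) = e (cI (D (l :: Q) i))) : Good p u v := by
  have hc : ∀ i, l ≤ i → cI i = i := fun i hi => by simp only [cI]; split_ifs <;> first | omega | contradiction
  have hclt : ∀ i, i < l → cI i < l := fun i hi => by simp only [cI]; split_ifs <;> first | omega | contradiction
  have hsurj : ∀ j, j < l → ∃ i, i < l ∧ cI i = j := fun j hj =>
    ⟨cI j, hclt j hj, by simp only [cI]; split_ifs <;> first | omega | contradiction⟩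
  obtain ⟨h1, -, -, hA⟩ := window (u := u) (v := v) [l] Q l (by simp) (by omega) hM hQ cI WI hc hsurj
    (fun i hi => by simp only [cI, WI, D, hi, if_true]; split_ifs <;> first | omega | contradiction)
    (fun j h0 hj => by simp only [WI]; split_ifs <;> first | omega | contradiction) hu hv hclt
  obtain ⟨V, hV⟩ := acts_v_exists cI (l :: Q) (by simp; omega) (lt_extend hc hclt (by omega))
    (surj_extend hc hsurj (by omega)) hv
  obtain ⟨q, hq⟩ : ∃ q, Q.length = 2 * q := ⟨Q.length / 2, by omega⟩
  have hWodd : ∀ i, WI^[Q.length + 1] i = WI i := by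
    intro i
    have hinv : ∀ t, WI^[2 * t] (WI i) = WI i := by
      intro t
      induction t with
      | zero => rfl
      | succ t ih =>
        rw [show 2 * (t + 1) = 2 * t + 1 + 1 by ring, Function.iterate_succ_apply',
          Function.iterate_succ_apply', ih, WI_WI]
    rw [Function.iterate_succ_apply, hq, hinv]
  set a := (u * v) ^ (Q.length + 1) with hadef
  have ha : a ∈ Subgroup.closure ({u, v} : Set (Perm X)) := pow_mem (mul_mem mem_u mem_v) _
  have hA' : Acts e M a WI := hA.congr fun i hi => by
    split_ifs with h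
    · exact hWodd i
    · simp only [WI]; split_ifs <;> first | omega | contradiction
  refine ⟨?_, ?_⟩
  · intro k hk
    have hπ : ∀ j, 0 < j → j < l → (u * v) (e j) = e (WI j) := h1
    have he1 : (u * v) (e 1) = e 1 := by
      apply eq_of_iterate_eq hp hk (d := 2) _ ?_
      · rw [pow_two, Perm.mul_apply, hπ 1 (by omega) (by omega), show WI 1 = 3 from rfl,
          hπ 3 (by omega) (by omega), show WI 3 = 1 from rfl]
      · intro hd
        exact hp2 ((Nat.prime_dvd_prime_iff_eq hp Nat.prime_two).1 hd)
    rw [hπ 1 (by omega) (by omega)] at he1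
    have : WI 1 = 1 := he (show WI 1 < M by simp [WI]; omega) (show 1 < M by omega) he1
    simp [WI] at this
  · -- a three-cycle
    set x := a * (u ^ 1 * a * (u ^ 1)⁻¹) with hxdef
    have hx0 := hA'.mul (acts_shift hu hA' 1 (by omega))
    set A3 : ℕ → ℕ := fun i => WI (sh M 1 WI i) with hA3
    have hfix : ∀ i, i < M → i ∉ [1, 3, fwd M 5 0] → A3 i = i := by
      intro i hi hn
      simp only [List.mem_cons, List.not_mem_nil, or_false, not_or] at hn
      show WI (sh M 1 WI i) = i
      obtain ⟨n1, n3, n5⟩ := hn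
      simp only [fwd] at n5
      by_cases h : i = 2 ∨ i = 4
      · rcases h with rfl | rfl
        · show WI (fwd M 1 (WI (back M 1 2))) = 2
          rw [show back M 1 2 = 1 from rfl, show WI 1 = 3 from rfl,
            show fwd M 1 3 = 4 by simp [fwd]; omega]
          rfl
        · show WI (fwd M 1 (WI (back M 1 4))) = 4
          rw [show back M 1 4 = 3 from rfl, show WI 3 = 1 from rfl,
            show fwd M 1 1 = 2 by simp [fwd]; omega]
          rfl
      · have hb : WI (back M 1 i) = back M 1 i := by
          have hbk : back M 1 i ≠ 1 ∧ back M 1 i ≠ 2 ∧ back M 1 i ≠ 3 ∧ back M 1 i ≠ 4 := by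
            simp only [back]; split_ifs at n5 ⊢ <;> omega
          simp only [WI]; split_ifs <;> first | omega | contradiction
        rw [sh_fix hi (by omega) hb]
        simp only [WI]; split_ifs <;> first | omega | contradiction
    have v5 : A3 (fwd M 5 0) = 1 := by
      show WI (fwd M 1 (WI (back M 1 (fwd M 5 0)))) = 1
      rw [show back M 1 (fwd M 5 0) = 4 by simp only [back, fwd]; split_ifs <;> omega,
        show WI 4 = 2 from rfl, show fwd M 1 2 = 3 by simp [fwd]; omega]
      rfl
    have v1 : A3 1 = 3 := by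
      show WI (fwd M 1 (WI (back M 1 1))) = 3
      rw [show back M 1 1 = 0 from rfl, show WI 0 = 0 from rfl,
        show fwd M 1 0 = 1 by simp [fwd]; omega]
      rfl
    have v3 : A3 3 = fwd M 5 0 := by
      show WI (fwd M 1 (WI (back M 1 3))) = fwd M 5 0
      rw [show back M 1 3 = 2 from rfl, show WI 2 = 4 from rfl,
        show fwd M 1 4 = fwd M 5 0 by simp only [fwd] <;> split_ifs <;> omega]
      have : fwd M 5 0 = 0 ∨ fwd M 5 0 = 5 := by simp only [fwd]; split_ifs <;> omega
      rcases this with h | h <;> rw [h] <;> rfl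
    have hxm : x ∈ Subgroup.closure ({u, v} : Set (Perm X)) := mul_mem ha (mem_shift ha 1)
    refine not_isSolvable_shift he hu hu hV hxm hx0 [1, 3, fwd M 5 0] hfix 4 (by omega)
      (fwd M 5 0) 1 (fwd_lt (by omega) (by omega)) (by omega) ?_ ?_ ?_ ?_ ?_ ?_
    · simp only [fwd] <;> split_ifs <;> first | omega | contradiction
    · intro s hs r hr hh
      simp only [List.mem_cons, List.not_mem_nil, or_false] at hs hr
      rcases hs with rfl | rfl | rfl <;> rcases hr with rfl | rfl | rfl <;>
        (simp only [fwd] at hh ⊢ <;> split_ifs at hh ⊢ <;> first | omega | contradiction)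
    · show A3 _ ≠ _
      rw [v5]; simp only [fwd]; split_ifs <;> first | omega | contradiction
    · show A3 (A3 _) ≠ _
      rw [v5, v1]; simp only [fwd]; split_ifs <;> first | omega | contradiction
    · show A3 _ ≠ _
      rw [v1]; omega
    · show A3 (A3 _) ≠ _
      rw [v1, v3]; simp only [fwd]; split_ifs <;> first | omega | contradiction

/-! ### A full cycle: two rearrangements of different parity -/

def cA (i : ℕ) : ℕ := if i = 1 then 2 else if i = 2 then 3 else if i = 3 then 1 else i

def cB (i : ℕ) : ℕ :=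
  if i = 0 then 1 else if i = 1 then 0 else if i = 2 then 3 else if i = 3 then 2 else i

theorem acts_prod (c : ℕ → ℕ) (L : List ℕ) (hL : L.sum = M)
    (hclt : ∀ i, i < M → c i < M) (hsurj : ∀ j, j < M → ∃ i, i < M ∧ c i = j)
    (hu : Acts e M u (U M)) (hv : ∀ i, i < M → v (e (c i)) = e (c (D L i))) (A : ℕ → ℕ)
    (h : ∀ i, i < M → fwd M 1 (c (D L i)) = A (c i)) : Acts e M (u * v) A := by
  intro j hj
  obtain ⟨i, hi, rfl⟩ := hsurj j hj
  have hlt : c (D L i) < M := hclt _ (hL ▸ D_lt L _ (hL.symm ▸ hi))
  rw [Perm.mul_apply, hv i hi, (hu _ hlt).2, U_eq hlt, h i hi]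
  refine ⟨?_, rfl⟩
  rw [← h i hi]
  simp only [fwd]; split_ifs <;> first | omega | contradiction

theorem good_caseA (he : Set.InjOn e (Set.Iio M)) (hp : p.Prime) (hp3 : p ≠ 3) (hM : 5 ≤ M)
    (hu : Acts e M u (U M)) (hv : ∀ i, i < M → v (e (cA i)) = e (cA (D [M] i))) :
    Good p u v := by
  have hclt : ∀ i, i < M → cA i < M := fun i hi => by simp only [cA]; split_ifs <;> first | omega | contradiction
  have hsurj : ∀ j, j < M → ∃ i, i < M ∧ cA i = j := fun j hj =>
    ⟨cA (cA j), hclt _ (hclt j hj), by simp only [cA]; split_ifs <;> first | omega | contradiction⟩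
  set A : ℕ → ℕ := fun i => if i = 1 then 4 else if i = 4 then 2 else if i = 2 then 1 else i with hA
  have hπ : Acts e M (u * v) A := acts_prod cA [M] (by simp) hclt hsurj hu hv A fun i hi => by
    simp only [hA, cA, D, hi, if_true, fwd]; split_ifs <;> first | omega | contradiction
  obtain ⟨V, hV⟩ := acts_v_exists cA [M] (by simp) hclt hsurj hv
  refine ⟨pow_ne_one_of_acts he hp hπ (i := 1) (d := 3) (by omega) (by simp [hA]) (by rfl)
    (fun hd => hp3 ((Nat.prime_dvd_prime_iff_eq hp Nat.prime_three).1 hd)), ?_⟩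
  refine not_isSolvable_shift he hu hu hV (mul_mem mem_u mem_v) hπ [1, 2, 4] ?_ 1 (by omega) 2 1
    (by omega) (by omega) ?_ ?_ (by simp [hA]) (by simp [hA]) (by simp [hA]) (by simp [hA])
  · intro i hi hn
    simp only [List.mem_cons, List.not_mem_nil, or_false, not_or] at hn
    simp only [hA]; split_ifs <;> first | omega | contradiction
  · simp only [fwd]; split_ifs <;> first | omega | contradiction
  · intro s hs r hr hh
    simp only [List.mem_cons, List.not_mem_nil, or_false] at hs hr
    rcases hs with rfl | rfl | rfl <;> rcases hr with rfl | rfl | rfl <;>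
      (simp only [fwd] at hh ⊢ <;> split_ifs at hh ⊢ <;> first | omega | contradiction)

theorem good_caseB (he : Set.InjOn e (Set.Iio M)) (hp : p.Prime) (hp3 : p = 3) (hM : 9 ≤ M)
    (hu : Acts e M u (U M)) (hv : ∀ i, i < M → v (e (cB i)) = e (cB (D [M] i))) :
    Good p u v := by
  have hclt : ∀ i, i < M → cB i < M := fun i hi => by simp only [cB]; split_ifs <;> first | omega | contradiction
  have hsurj : ∀ j, j < M → ∃ i, i < M ∧ cB i = j := fun j hj =>
    ⟨cB j, hclt j hj, by simp only [cB]; split_ifs <;> first | omega | contradiction⟩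
  set A : ℕ → ℕ := fun i => if i = 0 then 2 else if i = 2 then 4 else if i = 4 then 3 else
    if i = 3 then 1 else if i = 1 then 0 else i with hA
  have hπ : Acts e M (u * v) A := acts_prod cB [M] (by simp) hclt hsurj hu hv A fun i hi => by
    simp only [hA, cB, D, hi, if_true, fwd]; split_ifs <;> first | omega | contradiction
  obtain ⟨V, hV⟩ := acts_v_exists cB [M] (by simp) hclt hsurj hv
  refine ⟨pow_ne_one_of_acts he hp hπ (i := 0) (d := 5) (by omega) (by simp [hA]) (by rfl)
    (by subst hp3; decide), ?_⟩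
  refine not_isSolvable_shift he hu hu hV (mul_mem mem_u mem_v) hπ [0, 1, 2, 3, 4] ?_ 4
    (by omega) 4 0 (by omega) (by omega) ?_ ?_ (by simp [hA]) (by simp [hA]) (by simp [hA])
    (by simp [hA])
  · intro i hi hn
    simp only [List.mem_cons, List.not_mem_nil, or_false, not_or] at hn
    simp only [hA]; split_ifs <;> first | omega | contradiction
  · simp only [fwd]; split_ifs <;> first | omega | contradiction
  · intro s hs r hr hh
    simp only [List.mem_cons, List.not_mem_nil, or_false] at hs hr
    rcases hs with rfl | rfl | rfl | rfl | rfl <;> rcases hr with rfl | rfl | rfl | rfl | rfl <;>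
      (simp only [fwd] at hh ⊢ <;> split_ifs at hh ⊢ <;> first | omega | contradiction)

/-! ### All cycles of `v` have length at most three -/

theorem D_ones : ∀ (Q : List ℕ), (∀ x ∈ Q, x = 1) → ∀ i, D Q i = i
  | [], _, i => rfl
  | l :: Q, h, i => by
    have hl : l = 1 := h l (by simp)
    simp only [D, D_ones Q (fun x hx => h x (by simp [hx]))]
    split_ifs <;> first | omega | contradiction

theorem sum_ones : ∀ (Q : List ℕ), (∀ x ∈ Q, x = 1) → Q.sum = Q.length
  | [], _ => rfl
  | l :: Q, h => by
    rw [List.sum_cons, List.length_cons, sum_ones Q (fun x hx => h x (by simp [hx])),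
      h l (by simp)]
    omega

theorem good_one_three (he : Set.InjOn e (Set.Iio M)) (hp : p.Prime) (hp3 : p = 3) (hM9 : 9 ≤ M)
    (h3M : 3 ∣ M) (Q : List ℕ) (hQ1 : ∀ x ∈ Q, x = 1) (hM : 3 + Q.sum = M)
    (hu : Acts e M u (U M)) (hv : ∀ i, i < M → v (e i) = e (D (3 :: Q) i)) : Good p u v := by
  set A : ℕ → ℕ := fun i => if i = 0 then 2 else if i = 1 then 0 else if i = 2 then 1 else i
    with hA
  have hV : Acts e M v A := by
    intro i hi
    have : D (3 :: Q) i = A i := by
      simp only [D, D_ones Q hQ1, hA]; split_ifs <;> first | omega | contradiction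
    rw [hv i hi, this]
    exact ⟨by simp only [hA]; split_ifs <;> first | omega | contradiction, rfl⟩
  obtain ⟨-, h0, hper, -⟩ := window (u := u) (v := v) [3] Q 3 (by simp) (by omega) hM
    (fun x hx => by rw [hQ1 x hx]; omega) id id (fun _ _ => rfl) (fun j hj => ⟨j, hj, rfl⟩)
    (fun i hi => by simp only [D, hi, if_true, id]; split_ifs <;> first | omega | contradiction)
    (fun j h0 hj => ⟨h0, hj⟩) hu hv (fun i hi => hi)
  refine ⟨?_, ?_⟩
  · intro k hk
    have hlen := sum_ones Q hQ1
    have h := eq_of_iterate_eq hp hk (d := Q.length + 1) (by rw [Perm.coe_pow]; exact hper)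
      (by subst hp3; omega)
    rw [h0, Nat.mod_eq_of_lt (by omega)] at h
    have := he (show 3 < M by omega) (show 0 < M by omega) h
    omega
  · refine not_isSolvable_shift he hu hu hV mem_v hV [0, 1, 2] ?_ 2 (by omega) 2 0 (by omega)
      (by omega) ?_ ?_ (by simp [hA]) (by simp [hA]) (by simp [hA]) (by simp [hA])
    · intro i hi hn
      simp only [List.mem_cons, List.not_mem_nil, or_false, not_or] at hn
      simp only [hA]; split_ifs <;> first | omega | contradiction
    · simp only [fwd]; split_ifs <;> first | omega | contradiction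
    · intro s hs r hr hh
      simp only [List.mem_cons, List.not_mem_nil, or_false] at hs hr
      rcases hs with rfl | rfl | rfl <;> rcases hr with rfl | rfl | rfl <;>
        (simp only [fwd] at hh ⊢ <;> split_ifs at hh ⊢ <;> first | omega | contradiction)

end Cfsg.FreePair2276
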