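import Cfsg.Agent.FreePair2276.Gadgets

/-!
# Free pairs in alternating groups: windows of 3-cycles and the small degrees
-/

namespace Cfsg.FreePair2276

open Equiv
open scoped commutatorElement

variable {X : Type*} {e : ℕ → X} {M : ℕ} {p : ℕ} {u v : Perm X}

/-- Rearrangement for three blocks of length three. -/
def c333 (i : ℕ) : ℕ := [1, 2, 5, 3, 6, 4, 0].getD i i

def W333 (i : ℕ) : ℕ := [0, 6, 2, 5, 7, 3, 4, 1].getD i i

/-- Rearrangement for two blocks of length three and a fixed point. -/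
def c331 (i : ℕ) : ℕ := [0, 2, 6, 1, 3, 5, 4].getD i i

def W331 (i : ℕ) : ℕ := [0, 6, 1, 2, 5, 4, 3].getD i i

theorem getD_self (L : List ℕ) (i : ℕ) (hi : L.length ≤ i) : L.getD i i = i :=
  List.getD_eq_default L i hi

theorem iterate_mod_four {W : ℕ → ℕ} (h : ∀ i, W^[4] i = i) (r i : ℕ) :
    W^[r] i = W^[r % 4] i :=
  (Function.IsPeriodicPt.iterate_mod_apply (h i) r).symm

theorem iterate_id_beyond {W : ℕ → ℕ} {b : ℕ} (h : ∀ i, b ≤ i → W i = i) (r i : ℕ) (hi : b ≤ i) :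
    W^[r] i = i :=
  Function.iterate_fixed (h i hi) r

/-- What the window lemma gives for the two rearrangements. -/
theorem window_four (he : Set.InjOn e (Set.Iio M)) (hp : p.Prime) (hp2 : p ≠ 2) (P Q : List ℕ)
    (m : ℕ) (c W : ℕ → ℕ) (hm : 0 < m) (hPm : P.sum = m) (hM : m + Q.sum = M)
    (hQ : ∀ l ∈ Q, 0 < l) (hc : ∀ i, m ≤ i → c i = i) (hWf : ∀ i, m ≤ i → W i = i)
    (hclt : ∀ i, i < m → c i < m) (hsurj : ∀ j, j < m → ∃ i, i < m ∧ c i = j)
    (hW : ∀ i, i < m → c (D P i) + 1 = if c i = 0 then m else W (c i))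
    (hW0 : W 0 = 0) (hWlt : ∀ j, j < m → 0 < j → 0 < W j ∧ W j < m)
    (hW4 : ∀ i, i < m → W^[4] i = i) (q : ℕ) (hq0 : 0 < q) (hqm : q < m) (hqne : W q ≠ q)
    (hq2 : W (W q) = q)
    (hu : Acts e M u (U M)) (hv : ∀ i, i < M → v (e (c i)) = e (c (D (P ++ Q) i))) :
    (∀ k : ℕ, (u * v) ^ p ^ k ≠ 1) ∧ (∃ V, Acts e M v V) ∧
      Acts e M ((u * v) ^ (Q.length + 1)) (W^[(Q.length + 1) % 4]) := by
  obtain ⟨h1, -, -, hA⟩ := window P Q m hPm hm hM hQ c W hc hsurj hW
    (fun j h0 hj => hWlt j hj h0) hu hv hclt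
  refine ⟨?_, acts_v_exists c (P ++ Q) (by simp; omega) (lt_extend hc hclt (by omega))
    (surj_extend hc hsurj (by omega)) hv, ?_⟩
  · intro k hk
    obtain ⟨hpos, hlt⟩ := hWlt q hqm hq0
    have h := eq_of_iterate_eq hp hk (d := 2) (z := e q)
      (by rw [pow_two, Perm.mul_apply, h1 q hq0 hqm, h1 _ hpos hlt, hq2])
      (fun hd => hp2 ((Nat.prime_dvd_prime_iff_eq hp Nat.prime_two).1 hd))
    rw [h1 q hq0 hqm] at h
    exact hqne (he (show W q < M by omega) (show q < M by omega) h)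
  · have h4 : ∀ i, W^[4] i = i := fun i => by
      by_cases h : i < m
      · exact hW4 i h
      · exact iterate_id_beyond hWf 4 i (by omega)
    refine hA.congr fun i hi => ?_
    rw [← iterate_mod_four h4]
    split_ifs with h
    · rfl
    · rcases Nat.eq_zero_or_pos i with rfl | hp'
      · exact (Function.iterate_fixed hW0 _).symm
      · exact (iterate_id_beyond hWf _ i (by omega)).symm

/-- The commutator element used for `M = 9`. -/
theorem acts_com {W W' : ℕ → ℕ} {a : Perm X} (hu : Acts e 9 u (U 9)) (ha : Acts e 9 a W)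
    (hinv : ∀ i, i < 9 → W' i < 9 ∧ W (W' i) = i) (j : ℕ) (hj : j ≤ 9) :
    Acts e 9 (a * a * (u ^ j * a * (u ^ j)⁻¹) * (a⁻¹ * a⁻¹) * (u ^ j * a⁻¹ * (u ^ j)⁻¹))
      (fun i => W (W (sh 9 j W (W' (W' (sh 9 j W' i)))))) :=
  (((ha.mul ha).mul (acts_shift hu ha j hj)).mul ((ha.inv W' hinv).mul (ha.inv W' hinv))).mul
    (acts_shift hu (ha.inv W' hinv) j hj)

theorem mem_com {a : Perm X} (ha : a ∈ Subgroup.closure ({u, v} : Set (Perm X))) (j : ℕ) :
    a * a * (u ^ j * a * (u ^ j)⁻¹) * (a⁻¹ * a⁻¹) * (u ^ j * a⁻¹ * (u ^ j)⁻¹) ∈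
      Subgroup.closure ({u, v} : Set (Perm X)) :=
  mul_mem (mul_mem (mul_mem (mul_mem ha ha) (mem_shift ha j)) (mul_mem (inv_mem ha) (inv_mem ha)))
    (mem_shift (inv_mem ha) j)

theorem pos_sum_eq_zero {Q : List ℕ} (hQ : ∀ l ∈ Q, 0 < l) (h : Q.sum = 0) : Q = [] := by
  cases Q with
  | nil => rfl
  | cons a l => have := hQ a (by simp); simp at h; omega

theorem good_333 (he : Set.InjOn e (Set.Iio M)) (hp : p.Prime) (hp3 : p = 3) (Q : List ℕ)
    (hQ : ∀ l ∈ Q, 0 < l) (hQev : Q.length % 2 = 0) (hM : 9 + Q.sum = M)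
    (hM' : M = 9 ∨ 15 ≤ M)
    (hu : Acts e M u (U M))
    (hv : ∀ i, i < M → v (e (c333 i)) = e (c333 (D ([3, 3, 3] ++ Q) i))) : Good p u v := by
  obtain ⟨hpp, ⟨V, hV⟩, hA⟩ := window_four he hp (by omega) [3, 3, 3] Q 9 c333 W333 (by omega)
    rfl hM hQ (fun i hi => getD_self _ i (by simp; omega)) (fun i hi => getD_self _ i (by simp; omega))
    (by decide) (by decide) (by decide) rfl (by decide) (by decide) 3 (by omega) (by omega)
    (by decide) (by decide) hu hv
  refine ⟨hpp, ?_⟩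
  set a := (u * v) ^ (Q.length + 1) with hadef
  have ha : a ∈ Subgroup.closure ({u, v} : Set (Perm X)) := pow_mem (mul_mem mem_u mem_v) _
  rcases hM' with rfl | h15
  · have hQnil := pos_sum_eq_zero hQ (by omega)
    subst hQnil
    have hA1 : Acts e 9 a W333 := hA.congr (by decide)
    have hx := acts_com hu hA1 (W' := W333^[3]) (by decide) 1 (by omega)
    have hy := acts_shift hu (acts_com hu hA1 (W' := W333^[3]) (by decide) 6 (by omega)) 5 (by omega)
    exact not_isSolvable_of_acts he hu hV (mem_com ha 1) (mem_shift (mem_com ha 6) 5) hx hy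
      (c := 6) (by omega) (by decide) (by decide) (by decide) (by decide) (by decide)
  · have hS : ∀ r, r = 1 ∨ r = 3 → ∀ i, i < M → i ∉ [1, 3, 4, 5, 6, 7] → W333^[r] i = i := by
      intro r hr i hi hn
      by_cases h : i < 9
      · have key : ∀ r ∈ [1, 3], ∀ i, i < 9 → i ∉ [1, 3, 4, 5, 6, 7] → W333^[r] i = i := by decide
        exact key r (by simpa using hr) i h hn
      · exact iterate_id_beyond (fun i hi => getD_self _ i (by simp; omega)) r i (by omega)
    refine not_isSolvable_shift he hu hu hV ha hA [1, 3, 4, 5, 6, 7] (hS _ (by omega)) 6 (by omega)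
      7 1 (by omega) (by omega) (by simp [fwd]; omega) ?_ ?_ ?_ ?_ ?_
    · intro s hs r hr hh
      simp only [List.mem_cons, List.not_mem_nil, or_false] at hs hr
      rw [fwd, if_pos (by omega)] at hh
      omega
    all_goals
      rcases (show (Q.length + 1) % 4 = 1 ∨ (Q.length + 1) % 4 = 3 by omega) with h | h <;>
        rw [h] <;> decide

theorem good_331 (he : Set.InjOn e (Set.Iio M)) (hp : p.Prime) (hp3 : p = 3) (Q : List ℕ)
    (hQ1 : ∀ l ∈ Q, l = 1) (hQev : Q.length % 2 = 0) (hM : 7 + Q.sum = M)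
    (hM' : M = 9 ∨ 15 ≤ M)
    (hu : Acts e M u (U M))
    (hv : ∀ i, i < M → v (e (c331 i)) = e (c331 (D ([3, 3, 1] ++ Q) i))) : Good p u v := by
  obtain ⟨hpp, ⟨V, hV⟩, hA⟩ := window_four he hp (by omega) [3, 3, 1] Q 7 c331 W331 (by omega)
    rfl hM (fun l hl => by rw [hQ1 l hl]; omega) (fun i hi => getD_self _ i (by simp; omega))
    (fun i hi => getD_self _ i (by simp; omega))
    (by decide) (by decide) (by decide) rfl (by decide) (by decide) 4 (by omega) (by omega)
    (by decide) (by decide) hu hv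
  refine ⟨hpp, ?_⟩
  set a := (u * v) ^ (Q.length + 1) with hadef
  have ha : a ∈ Subgroup.closure ({u, v} : Set (Perm X)) := pow_mem (mul_mem mem_u mem_v) _
  have hlen := sum_ones Q hQ1
  rcases hM' with rfl | h15
  · have hA3 : Acts e 9 a W331^[3] := by
      have : (Q.length + 1) % 4 = 3 := by omega
      rwa [this] at hA
    have hx := acts_com hu hA3 (W' := W331) (by decide) 3 (by omega)
    exact not_isSolvable_of_acts he hu hV (mem_com ha 3) (mem_shift (mem_com ha 3) 4) hx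
      (acts_shift hu hx 4 (by omega))
      (c := 6) (by omega) (by decide) (by decide) (by decide) (by decide) (by decide)
  · have hS : ∀ r, r = 1 ∨ r = 3 → ∀ i, i < M → i ∉ [1, 2, 3, 4, 5, 6] → W331^[r] i = i := by
      intro r hr i hi hn
      by_cases h : i < 7
      · have key : ∀ r ∈ [1, 3], ∀ i, i < 7 → i ∉ [1, 2, 3, 4, 5, 6] → W331^[r] i = i := by decide
        exact key r (by simpa using hr) i h hn
      · exact iterate_id_beyond (fun i hi => getD_self _ i (by simp; omega)) r i (by omega)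
    refine not_isSolvable_shift he hu hu hV ha hA [1, 2, 3, 4, 5, 6] (hS _ (by omega)) 5 (by omega)
      6 1 (by omega) (by omega) (by simp [fwd]; omega) ?_ ?_ ?_ ?_ ?_
    · intro s hs r hr hh
      simp only [List.mem_cons, List.not_mem_nil, or_false] at hs hr
      rw [fwd, if_pos (by omega)] at hh
      omega
    all_goals
      rcases (show (Q.length + 1) % 4 = 1 ∨ (Q.length + 1) % 4 = 3 by omega) with h | h <;>
        rw [h] <;> decide

/-! ### Degrees five and six for elements of order three -/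

theorem acts_small {Lw : List ℕ} (c V : ℕ → ℕ) (hL : Lw.sum = M)
    (hclt : ∀ i, i < M → c i < M) (hsurj : ∀ j, j < M → ∃ i, i < M ∧ c i = j)
    (hVc : ∀ i, i < M → V (c i) = c (D Lw i))
    (hv : ∀ i, i < M → v (e (c i)) = e (c (D Lw i))) : Acts e M v V := by
  intro j hj
  obtain ⟨i, hi, rfl⟩ := hsurj j hj
  rw [hVc i hi, hv i hi]
  exact ⟨hclt _ (hL ▸ D_lt Lw _ (hL.symm ▸ hi)), rfl⟩

/-- The index map of a commutator of conjugates. -/
theorem acts_words {g₁ g₂ x y : Perm X} {G₁ G₁' G₂ G₂' X₁ X₁' Y Y' : ℕ → ℕ}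
    (h1 : Acts e M g₁ G₁) (h1' : Acts e M g₁⁻¹ G₁') (h2 : Acts e M g₂ G₂)
    (h2' : Acts e M g₂⁻¹ G₂') (hx : Acts e M x X₁) (hx' : Acts e M x⁻¹ X₁')
    (hy : Acts e M y Y) (hy' : Acts e M y⁻¹ Y') :
    Acts e M ⁅g₁ * x * g₁⁻¹, g₂ * y⁻¹ * g₂⁻¹⁆
      (fun i => G₁ (X₁ (G₁' (G₂ (Y' (G₂' (G₁ (X₁' (G₁' (G₂ (Y (G₂' i)))))))))))) := by
  have h := ((((h1.mul hx).mul h1').mul ((h2.mul hy').mul h2')).mul
    ((h1.mul hx').mul h1')).mul ((h2.mul hy).mul h2')
  rwa [show ⁅g₁ * x * g₁⁻¹, g₂ * y⁻¹ * g₂⁻¹⁆ = g₁ * x * g₁⁻¹ * (g₂ * y⁻¹ * g₂⁻¹) *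
    (g₁ * x⁻¹ * g₁⁻¹) * (g₂ * y * g₂⁻¹) by simp only [commutatorElement_def]; group]

/-- Both elements single 3-cycles on five of the points. -/
theorem good_small_3_3 (he : Set.InjOn e (Set.Iio 5)) (hp : p.Prime) (hp3 : p = 3)
    (hu : Acts e 5 u (D [3, 1, 1]))
    (hv : ∀ i, i < 5 → v (e ([0, 3, 4, 1, 2].getD i i)) =
      e ([0, 3, 4, 1, 2].getD (D [3, 1, 1] i) (D [3, 1, 1] i))) : Good p u v := by
  have hV : Acts e 5 v (fun i => [4, 1, 2, 0, 3].getD i i) :=
    acts_small (fun i => [0, 3, 4, 1, 2].getD i i) _ rfl (by decide) (by decide) (by decide) hv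
  refine ⟨pow_ne_one_of_acts he hp (hu.mul hV) (i := 0) (d := 5) (by omega) (by decide) (by decide)
    (by subst hp3; decide), ?_⟩
  have hu' := hu.inv (fun i => [1, 2, 0, 3, 4].getD i i) (by decide)
  have hV' := hV.inv (fun i => [3, 1, 2, 4, 0].getD i i) (by decide)
  refine not_isSolvable_of_acts he hu hV mem_u mem_v hu hV (c := 0) (by omega)
    (by decide) (by decide) (by decide) (by decide) (by decide)

/-- Both elements products of two 3-cycles on six of the points. -/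
theorem good_small_33_33 (he : Set.InjOn e (Set.Iio 6)) (hp : p.Prime) (hp3 : p = 3)
    (hu : Acts e 6 u (D [3, 3]))
    (hv : ∀ i, i < 6 → v (e ([0, 1, 3, 2, 5, 4].getD i i)) =
      e ([0, 1, 3, 2, 5, 4].getD (D [3, 3] i) (D [3, 3] i))) : Good p u v := by
  have hV : Acts e 6 v (fun i => [3, 0, 4, 1, 5, 2].getD i i) :=
    acts_small (fun i => [0, 1, 3, 2, 5, 4].getD i i) _ rfl (by decide) (by decide) (by decide) hv
  refine ⟨pow_ne_one_of_acts he hp (hu.mul hV) (i := 0) (d := 5) (by omega) (by decide) (by decide)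
    (by subst hp3; decide), ?_⟩
  have hu' := hu.inv (fun i => [1, 2, 0, 4, 5, 3].getD i i) (by decide)
  have hV' := hV.inv (fun i => [1, 3, 5, 0, 2, 4].getD i i) (by decide)
  refine not_isSolvable_of_words hu hV (i₀ := 0) (by omega) ?_ v (u⁻¹ * v⁻¹) u (u * v)
    mem_v (mul_mem (inv_mem mem_u) (inv_mem mem_v)) mem_u (mul_mem mem_u mem_v) ?_ u (Or.inl rfl) ?_
  · rw [(hu 0 (by omega)).2]
    intro h
    have := he (hu 0 (by omega)).1 (show (0 : ℕ) < 6 by omega) h
    revert this; decide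
  · exact (acts_words hV hV' (hu'.mul hV') (by simpa [mul_inv_rev] using hV.mul hu) hu hu' hu hu').congr
      (by decide)
  · exact (acts_words hu hu' (hu.mul hV) (by simpa [mul_inv_rev] using hV'.mul hu') hV hV' hu hu').congr
      (by decide)

/-- A product of two 3-cycles and a single 3-cycle on six of the points. -/
theorem good_small_33_3 (he : Set.InjOn e (Set.Iio 6)) (hp : p.Prime) (hp3 : p = 3)
    (hu : Acts e 6 u (D [3, 3]))
    (hv : ∀ i, i < 6 → v (e ([0, 1, 3, 2, 4, 5].getD i i)) =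
      e ([0, 1, 3, 2, 4, 5].getD (D [3, 1, 1, 1] i) (D [3, 1, 1, 1] i))) : Good p u v := by
  have hV : Acts e 6 v (fun i => [3, 0, 2, 1, 4, 5].getD i i) :=
    acts_small (fun i => [0, 1, 3, 2, 4, 5].getD i i) _ rfl (by decide) (by decide) (by decide) hv
  refine ⟨pow_ne_one_of_acts he hp (hu.mul hV) (i := 1) (d := 2) (by omega) (by decide) (by decide)
    (by subst hp3; decide), ?_⟩
  have hu' := hu.inv (fun i => [1, 2, 0, 4, 5, 3].getD i i) (by decide)
  have hV' := hV.inv (fun i => [1, 3, 2, 0, 4, 5].getD i i) (by decide)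
  refine not_isSolvable_of_words hu hV (i₀ := 0) (by omega) ?_
    (v * u * v⁻¹) (v⁻¹ * u * v) (u * v * u⁻¹) (u⁻¹ * v * u)
    (mul_mem (mul_mem mem_v mem_u) (inv_mem mem_v))
    (mul_mem (mul_mem (inv_mem mem_v) mem_u) mem_v)
    (mul_mem (mul_mem mem_u mem_v) (inv_mem mem_u))
    (mul_mem (mul_mem (inv_mem mem_u) mem_v) mem_u) ?_ v (Or.inr rfl) ?_
  · rw [(hu 0 (by omega)).2]
    intro h
    have := he (hu 0 (by omega)).1 (show (0 : ℕ) < 6 by omega) h
    revert this; decide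
  · exact (acts_words ((hV.mul hu).mul hV') (by simpa [mul_inv_rev, mul_assoc] using (hV.mul hu').mul hV')
      ((hV'.mul hu).mul hV) (by simpa [mul_inv_rev, mul_assoc] using (hV'.mul hu').mul hV)
      hu hu' hu hu').congr (by decide)
  · exact (acts_words ((hu.mul hV).mul hu') (by simpa [mul_inv_rev, mul_assoc] using (hu.mul hV').mul hu')
      ((hu'.mul hV).mul hu) (by simpa [mul_inv_rev, mul_assoc] using (hu'.mul hV').mul hu)
      hV hV' hV hV').congr (by decide)

end Cfsg.FreePair2276
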