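import Cfsg.Agent.FreePair2276.Gadgets2
import Cfsg.Agent.FreePair2276.Enum

/-!
# Free pairs in alternating groups: assembling the cases
-/

namespace Cfsg.FreePair2276

open Equiv

variable {X : Type*} [Fintype X] [DecidableEq X] {p : ℕ}

set_option linter.unusedSectionVars false

theorem Good.symm {u w g : Perm X} (h : Good p w (g * u * g⁻¹)) :
    Good p u (g⁻¹ * w * g⁻¹⁻¹) := by
  obtain ⟨h1, h2⟩ := h
  rw [inv_inv]
  refine ⟨fun k hk => h1 k ?_, fun hs => h2 ?_⟩
  · have : w * (g * u * g⁻¹) = (w * g) * (u * (g⁻¹ * w * g)) * (w * g)⁻¹ := by group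
    rw [this, conj_pow, hk]; group
  · have hmap : (Subgroup.closure ({u, g⁻¹ * w * g} : Set (Perm X))).map (MulAut.conj g).toMonoidHom =
        Subgroup.closure ({w, g * u * g⁻¹} : Set (Perm X)) := by
      rw [MonoidHom.map_closure]
      congr 1
      simp only [Set.image_insert_eq, Set.image_singleton, MulEquiv.coe_toMonoidHom,
        MulAut.conj_apply]
      rw [show g * (g⁻¹ * w * g) * g⁻¹ = w by group]
      exact Set.pair_comm _ _
    have := hs
    rw [← hmap]
    exact Group.isSolvable_of_surjective (MonoidHom.subgroupMap_surjective _ _)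

theorem conj_spec {w g : Perm X} {E e : ℕ → X} {c : ℕ → ℕ} {L : List ℕ} {M : ℕ} {S : Finset X}
    (hB : Blocks w L E S) (hL : L.sum = M) (hg : ∀ i, i < M → g (E i) = e (c i)) :
    ∀ i, i < M → (g * w * g⁻¹) (e (c i)) = e (c (D L i)) := by
  intro i hi
  rw [← hg i hi, Perm.mul_apply, Perm.mul_apply]
  simp only [Perm.coe_inv, Equiv.symm_apply_apply]
  rw [hB.act i (hL.symm ▸ hi), hg _ (hL ▸ D_lt L i (hL.symm ▸ hi))]

theorem match_window {E e : ℕ → X} {M m : ℕ} (hE : Set.InjOn E (Set.Iio M))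
    (he : Set.InjOn e (Set.Iio M)) (c : ℕ → ℕ) (hm : m ≤ M) (hc : ∀ i, m ≤ i → c i = i)
    (hclt : ∀ i, i < m → c i < m) (hinj : ∀ i, i < m → ∀ j, j < m → c i = c j → i = j) :
    ∃ g : Perm X, ∀ i, i < M → g (E i) = e (c i) := by
  apply exists_match hE
  intro i hi j hj h
  have := he (lt_extend hc hclt hm i hi) (lt_extend hc hclt hm j hj) h
  by_cases h1 : i < m <;> by_cases h2 : j < m
  · exact hinj i h1 j h2 this
  · rw [hc j (by omega)] at this; have := hclt i h1; omega
  · rw [hc i (by omega)] at this; have := hclt j h2; omega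
  · rwa [hc i (by omega), hc j (by omega)] at this

theorem swap_map {e : ℕ → X} {M : ℕ} (he : Set.InjOn e (Set.Iio M)) {a b i : ℕ} (ha : a < M)
    (hb : b < M) (hi : i < M) :
    swap (e a) (e b) (e i) = e (if i = a then b else if i = b then a else i) := by
  split_ifs with h1 h2
  · rw [h1, swap_apply_left]
  · rw [h2, swap_apply_right]
  · exact swap_apply_of_ne_of_ne (fun h => h1 (he hi ha h)) (fun h => h2 (he hi hb h))

theorem parity_fix {u w g : Perm X} (hh : ∃ h : Perm X, Perm.sign h = -1 ∧ h * w = w * h)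
    (hg : Good p u (g * w * g⁻¹)) :
    ∃ g : Perm X, Perm.sign g = 1 ∧ Good p u (g * w * g⁻¹) := by
  rcases Int.units_eq_one_or (Perm.sign g) with hs | hs
  · exact ⟨g, hs, hg⟩
  · obtain ⟨h, h1, h2⟩ := hh
    refine ⟨g * h, by rw [map_mul, hs, h1]; rfl, ?_⟩
    have : g * h * w * (g * h)⁻¹ = g * w * g⁻¹ := by
      rw [mul_inv_rev, mul_assoc g h w, h2]; group
    rwa [this]

theorem length_parity : ∀ (L : List ℕ), (∀ l ∈ L, l % 2 = 1) → L.length % 2 = L.sum % 2
  | [], _ => rfl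
  | l :: L, h => by
    have h1 := h l (by simp)
    have h2 := length_parity L (fun x hx => h x (by simp [hx]))
    simp only [List.length_cons, List.sum_cons]
    omega

theorem per_odd (hp : p.Prime) (hp2 : p ≠ 2) {w : Perm X} {k : ℕ} (hw : w ^ p ^ k = 1) (x : X) :
    per w x % 2 = 1 := by
  obtain ⟨i, -, hi⟩ := (Nat.dvd_prime_pow hp).1 (per_dvd hw x)
  have := (hp.odd_of_ne_two hp2).pow (n := i)
  rw [hi]; exact Nat.odd_iff.1 this

theorem per_small (hp : p.Prime) (hp3 : 3 ≤ p) {w : Perm X} {k : ℕ} (hw : w ^ p ^ k = 1) {x : X}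
    (h : per w x < 5) : per w x = 1 ∨ (per w x = 3 ∧ p = 3) := by
  obtain ⟨i, -, hi⟩ := (Nat.dvd_prime_pow hp).1 (per_dvd hw x)
  match i with
  | 0 => left; simpa using hi
  | 1 =>
    right
    rw [pow_one] at hi
    have : p = 3 := by
      rcases (show p = 3 ∨ p = 4 by omega) with h' | h'
      · exact h'
      · exact absurd (h' ▸ hp) (by norm_num)
    omega
  | i + 2 =>
    exfalso
    have : p ^ 2 ≤ p ^ (i + 2) := Nat.pow_le_pow_right hp.pos (by omega)
    have : 9 ≤ p ^ 2 := by nlinarith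
    omega

theorem exists_per_ne_one {w : Perm X} (hw : w ≠ 1) : ∃ x, per w x ≠ 1 := by
  by_contra h
  push Not at h
  apply hw
  have : w⁻¹ = 1 := by
    ext x
    exact Function.minimalPeriod_eq_one_iff_isFixedPt.1 (h x)
  simpa using this

theorem inv_univ (w : Perm X) : Inv w Finset.univ := fun _ _ => Finset.mem_univ _

/-- The cycle through `x`, read upwards. -/
theorem cycle_list (u : Perm X) (x : X) :
    Set.InjOn (fun i => (⇑u)^[i] x) (Set.Iio (per u x)) ∧
      Acts (fun i => (⇑u)^[i] x) (per u x) u (U (per u x)) := by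
  refine ⟨?_, ?_⟩
  · rw [← minimalPeriod_eq_per]
    exact Function.iterate_injOn_Iio_minimalPeriod
  · intro i hi
    refine ⟨Nat.mod_lt _ (per_pos u x), ?_⟩
    show u ((⇑u)^[i] x) = (⇑u)^[(i + 1) % per u x] x
    rw [← Function.iterate_succ_apply' (⇑u), ← minimalPeriod_eq_per,
      Function.iterate_mod_minimalPeriod_eq]

section BigCases

variable {u w : Perm X} {e : ℕ → X} {M k : ℕ}

theorem good_long (hp : p.Prime) (hp3 : 3 ≤ p) (hw : w ^ p ^ k = 1) (hMk : ∃ j, M = p ^ j)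
    (hMn : M ≤ Fintype.card X) (he : Set.InjOn e (Set.Iio M)) (hu : Acts e M u (U M))
    {x : X} (hl : 5 ≤ per w x) (hmax : ∀ y, per w y ≤ per w x) (hlM : per w x ≤ M) :
    ∃ g : Perm X, Good p u (g * w * g⁻¹) := by
  obtain ⟨j, rfl⟩ := hMk
  have hc := card_sdiff_orb (inv_univ w) (Finset.mem_univ x)
  rw [Finset.card_univ] at hc
  have hlM' : per w x ∣ p ^ j := by
    obtain ⟨i, -, hi⟩ := (Nat.dvd_prime_pow hp).1 (per_dvd hw x)
    rw [hi] at hlM ⊢
    exact Nat.pow_dvd_pow p ((Nat.pow_le_pow_iff_right hp.one_lt).1 hlM)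
  obtain ⟨L, E, hsum, hmem, hB⟩ := fill hp hw x (p ^ j - per w x) _ (per w x)
    ((inv_univ w).sdiff x) (fun y _ => per_le_of_dvd hp hw (hmax y))
    (Nat.dvd_sub hlM' dvd_rfl) (by omega)
  obtain ⟨E', hB'⟩ := Blocks.cons (inv_univ w) (Finset.mem_univ x) hB
  have hsum' : (per w x :: L).sum = p ^ j := by rw [List.sum_cons, hsum]; omega
  have hE : Set.InjOn E' (Set.Iio (p ^ j)) := hsum' ▸ hB'.inj
  obtain ⟨g, hg⟩ := match_window hE he cI (m := 5) (by omega)
    (fun i hi => by simp only [cI]; split_ifs <;> omega) (by decide) (by decide)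
  refine ⟨g, good_caseI he hp (by omega) L hl ?_ ?_ (by omega) ?_ hu (conj_spec hB' hsum' hg)⟩
  · intro l hl
    obtain ⟨y, -, rfl⟩ := hmem l hl
    exact per_pos w y
  · have h1 : ∀ l ∈ L, l % 2 = 1 := by
      intro l hl
      obtain ⟨y, -, rfl⟩ := hmem l hl
      exact per_odd hp (by omega) hw y
    have h2 := length_parity L h1
    have h3 := per_odd hp (by omega) hw x
    have h4 : p ^ j % 2 = 1 := Nat.odd_iff.1 (hp.odd_of_ne_two (by omega)).pow
    omega
  · exact Nat.odd_iff.1 (hp.odd_of_ne_two (by omega)).pow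

theorem good_short (hp : p.Prime) (hp3 : 3 ≤ p) (hw : w ^ p ^ k = 1) (hw1 : w ≠ 1)
    (hMk : ∃ j, M = p ^ j) (hM5 : 5 ≤ M) (hMn : M ≤ Fintype.card X)
    (he : Set.InjOn e (Set.Iio M)) (hu : Acts e M u (U M)) (hall : ∀ y, per w y < 5) :
    ∃ g : Perm X, Good p u (g * w * g⁻¹) := by
  obtain ⟨x1, hx1⟩ := exists_per_ne_one hw1
  have hval : ∀ y, per w y = 1 ∨ per w y = 3 := fun y =>
    (per_small hp hp3 hw (hall y)).imp_right And.left
  have hp3' : p = 3 := ((per_small hp hp3 hw (hall x1)).resolve_left hx1).2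
  have hl1 : per w x1 = 3 := (hval x1).resolve_left hx1
  obtain ⟨j, rfl⟩ := hMk
  subst hp3'
  obtain ⟨j', rfl⟩ : ∃ j', j = j' + 2 := by
    refine ⟨j - 2, ?_⟩
    rcases j with _ | _ | j <;> simp_all
  have h3M : 3 ∣ 3 ^ (j' + 2) := dvd_pow_self 3 (by omega)
  have hM' : 3 ^ (j' + 2) = 9 ∨ 15 ≤ 3 ^ (j' + 2) := by
    rcases Nat.eq_zero_or_pos j' with rfl | h
    · left; rfl
    · right
      calc 15 ≤ 3 ^ 3 := by norm_num
        _ ≤ 3 ^ (j' + 2) := Nat.pow_le_pow_right (by norm_num) (by omega)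
  have hodd : 3 ^ (j' + 2) % 2 = 1 := Nat.odd_iff.1 (Odd.pow (by decide))
  set M := 3 ^ (j' + 2) with hM
  have hi0 := inv_univ w
  have hc1 := card_sdiff_orb hi0 (Finset.mem_univ x1)
  rw [Finset.card_univ] at hc1
  set S1 := Finset.univ \ orb w x1 with hS1
  have hi1 : Inv w S1 := hi0.sdiff x1
  by_cases h2 : ∃ x2 ∈ S1, per w x2 = 3
  · obtain ⟨x2, hx2, hl2⟩ := h2
    have hc2 := card_sdiff_orb hi1 hx2
    set S2 := S1 \ orb w x2 with hS2
    have hi2 : Inv w S2 := hi1.sdiff x2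
    by_cases h3 : ∃ x3 ∈ S2, per w x3 = 3
    · obtain ⟨x3, hx3, hl3⟩ := h3
      have hc3 := card_sdiff_orb hi2 hx3
      obtain ⟨L, E, hsum, hmem, hB⟩ := fill hp hw x1 (M - 9) _ 3
        (hi2.sdiff x3)
        (fun y _ => by rcases hval y with h | h <;> rw [h]; exact one_dvd _)
        (Nat.dvd_sub h3M (by norm_num)) (by omega)
      obtain ⟨E3, hB3⟩ := Blocks.cons hi2 hx3 hB
      obtain ⟨E2, hB2⟩ := Blocks.cons hi1 hx2 hB3
      obtain ⟨E1, hB1⟩ := Blocks.cons hi0 (Finset.mem_univ x1) hB2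
      rw [hl1, hl2, hl3] at hB1
      have hsum' : (3 :: 3 :: 3 :: L).sum = M := by
        simp only [List.sum_cons, hsum]; omega
      obtain ⟨g, hg⟩ := match_window (hsum' ▸ hB1.inj) he c333 (m := 9) (by omega)
        (fun i hi => getD_self _ i (by simp; omega)) (by decide) (by decide)
      refine ⟨g, good_333 he hp rfl L ?_ ?_ (by omega) hM' hu (conj_spec hB1 hsum' hg)⟩
      · intro l hl
        obtain ⟨y, -, rfl⟩ := hmem l hl
        exact per_pos w y
      · have h1 : ∀ l ∈ L, l % 2 = 1 := by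
          intro l hl
          obtain ⟨y, -, rfl⟩ := hmem l hl
          rcases hval y with h | h <;> omega
        have := length_parity L h1
        omega
    · push Not at h3
      have hone : ∀ y ∈ S2, per w y = 1 := fun y hy => (hval y).resolve_right (h3 y hy)
      obtain ⟨x3, hx3⟩ : S2.Nonempty := Finset.card_pos.1 (by omega)
      have hc3 := card_sdiff_orb hi2 hx3
      have hl3 := hone x3 hx3
      obtain ⟨L, E, hsum, hmem, hB⟩ := fill hp hw x1 (M - 7) _ 1
        (hi2.sdiff x3)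
        (fun y hy => by rw [hone y (Finset.mem_sdiff.1 hy).1])
        (one_dvd _) (by omega)
      obtain ⟨E3, hB3⟩ := Blocks.cons hi2 hx3 hB
      obtain ⟨E2, hB2⟩ := Blocks.cons hi1 hx2 hB3
      obtain ⟨E1, hB1⟩ := Blocks.cons hi0 (Finset.mem_univ x1) hB2
      rw [hl1, hl2, hl3] at hB1
      have hsum' : (3 :: 3 :: 1 :: L).sum = M := by
        simp only [List.sum_cons, hsum]; omega
      have hL1 : ∀ l ∈ L, l = 1 := by
        intro l hl
        obtain ⟨y, hy, rfl⟩ := hmem l hl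
        exact hone y (Finset.mem_sdiff.1 hy).1
      obtain ⟨g, hg⟩ := match_window (hsum' ▸ hB1.inj) he c331 (m := 7) (by omega)
        (fun i hi => getD_self _ i (by simp; omega)) (by decide) (by decide)
      refine ⟨g, good_331 he hp rfl L hL1 ?_ (by omega) hM' hu (conj_spec hB1 hsum' hg)⟩
      have := sum_ones L hL1
      omega
  · push Not at h2
    have hone : ∀ y ∈ S1, per w y = 1 := fun y hy => (hval y).resolve_right (h2 y hy)
    obtain ⟨L, E, hsum, hmem, hB⟩ := fill hp hw x1 (M - 3) _ 1 hi1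
      (fun y hy => by rw [hone y hy]) (one_dvd _) (by omega)
    obtain ⟨E1, hB1⟩ := Blocks.cons hi0 (Finset.mem_univ x1) hB
    rw [hl1] at hB1
    have hsum' : (3 :: L).sum = M := by simp only [List.sum_cons, hsum]; omega
    have hL1 : ∀ l ∈ L, l = 1 := by
      intro l hl
      obtain ⟨y, hy, rfl⟩ := hmem l hl
      exact hone y hy
    obtain ⟨g, hg⟩ := exists_match (hsum' ▸ hB1.inj) he
    exact ⟨g, good_one_three he hp rfl (by omega) h3M L hL1 (by omega) hu
      (conj_spec (c := id) hB1 hsum' hg)⟩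

theorem good_full (hp : p.Prime) (hp3 : 3 ≤ p) (hMk : ∃ j, M = p ^ j) (hM5 : 5 ≤ M)
    (he : Set.InjOn e (Set.Iio M)) (hu : Acts e M u (U M)) {x : X} (hx : per w x = M) :
    ∃ g : Perm X, Perm.sign g = 1 ∧ Good p u (g * w * g⁻¹) := by
  obtain ⟨j, rfl⟩ := hMk
  have hodd : p ^ j % 2 = 1 := Nat.odd_iff.1 (hp.odd_of_ne_two (by omega)).pow
  obtain ⟨E1, hB⟩ := Blocks.cons (inv_univ w) (Finset.mem_univ x) (L := []) (E := fun _ => x)
    ⟨fun a ha => by simp at ha, fun i hi => by simp at hi, fun i hi => by simp at hi⟩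
  rw [hx] at hB
  have hsum : [p ^ j].sum = p ^ j := by simp
  obtain ⟨g0, hg0⟩ := exists_match (hsum ▸ hB.inj) he
  have ne : ∀ a b, a < p ^ j → b < p ^ j → a ≠ b → e a ≠ e b := fun a b ha hb h h' =>
    h (he ha hb h')
  rcases Int.units_eq_one_or (Perm.sign g0) with hs | hs
  · by_cases h3 : p = 3
    · have h9 : 9 ≤ p ^ j := by
        subst h3
        rcases j with _ | _ | j
        · simp at hM5
        · simp at hM5
        · calc 9 = 3 ^ 2 := by norm_num
            _ ≤ 3 ^ (j + 1 + 1) := Nat.pow_le_pow_right (by norm_num) (by omega)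
      refine ⟨swap (e 0) (e 1) * swap (e 2) (e 3) * g0, ?_,
        good_caseB he hp h3 h9 hu (conj_spec hB hsum ?_)⟩
      · simp only [map_mul, hs, Perm.sign_swap (ne 0 1 (by omega) (by omega) (by omega)),
          Perm.sign_swap (ne 2 3 (by omega) (by omega) (by omega))]
        rfl
      · intro i hi
        rw [Perm.mul_apply, Perm.mul_apply, hg0 i hi, swap_map he (by omega) (by omega) hi,
          swap_map he (by omega) (by omega) (by split_ifs <;> omega)]
        congr 1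
        simp only [cB]; split_ifs <;> first | omega | contradiction
    · refine ⟨swap (e 1) (e 2) * swap (e 2) (e 3) * g0, ?_,
        good_caseA he hp h3 hM5 hu (conj_spec hB hsum ?_)⟩
      · simp only [map_mul, hs, Perm.sign_swap (ne 1 2 (by omega) (by omega) (by omega)),
          Perm.sign_swap (ne 2 3 (by omega) (by omega) (by omega))]
        rfl
      · intro i hi
        rw [Perm.mul_apply, Perm.mul_apply, hg0 i hi, swap_map he (by omega) (by omega) hi,
          swap_map he (by omega) (by omega) (by split_ifs <;> omega)]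
        congr 1
        simp only [cA]; split_ifs <;> first | omega | contradiction
  · refine ⟨swap (e 1) (e 3) * g0, ?_,
      good_caseI he hp (by omega) [] hM5 (by simp) rfl (by simp) hodd hu (conj_spec hB hsum ?_)⟩
    · rw [map_mul, hs, Perm.sign_swap (ne 1 3 (by omega) (by omega) (by omega))]; rfl
    · intro i hi
      rw [Perm.mul_apply, hg0 i hi, swap_map he (by omega) (by omega) hi]
      rfl

end BigCases

/-- One of the two elements has the longest cycle, of length at least five. -/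
theorem exists_good_big (hp : p.Prime) (hp3 : 3 ≤ p) {u w : Perm X} {k m : ℕ}
    (hu : u ^ p ^ m = 1) (hw : w ^ p ^ k = 1) (hw1 : w ≠ 1) {x : X} (h5 : 5 ≤ per u x)
    (hmax : ∀ y, per w y ≤ per u x) :
    ∃ g : Perm X, Perm.sign g = 1 ∧ Good p u (g * w * g⁻¹) := by
  obtain ⟨he, hU⟩ := cycle_list u x
  obtain ⟨a, -, ha⟩ := (Nat.dvd_prime_pow hp).1 (per_dvd hu x)
  have hn : per u x ≤ Fintype.card X := by
    rw [← card_orb u x]; exact Finset.card_le_univ _
  by_cases hfull : ∃ y, per w y = per u x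
  · obtain ⟨y, hy⟩ := hfull
    exact good_full hp hp3 ⟨a, ha⟩ h5 he hU hy
  · push Not at hfull
    obtain ⟨y1, y2, hy, heq⟩ := exists_equal_orbits (a := a) hp hw
      (fun y => ha ▸ lt_of_le_of_ne (hmax y) (hfull y)) (ha ▸ hn)
    have hh := exists_odd_commute hy heq (per_odd hp (by omega) hw y1)
    obtain ⟨g, hg⟩ : ∃ g : Perm X, Good p u (g * w * g⁻¹) := by
      by_cases hlong : ∃ y, 5 ≤ per w y
      · obtain ⟨y0, hy0⟩ := hlong
        obtain ⟨z, -, hz⟩ := Finset.exists_max_image Finset.univ (per w) ⟨y0, Finset.mem_univ _⟩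
        exact good_long hp hp3 hw ⟨a, ha⟩ hn he hU (le_trans hy0 (hz y0 (Finset.mem_univ _)))
          (fun y => hz y (Finset.mem_univ _)) (hmax z)
      · push Not at hlong
        exact good_short hp hp3 hw hw1 ⟨a, ha⟩ h5 hn he hU hlong
    exact parity_fix hh hg

/-- Shapes of an element with cycles of length at most three. -/
theorem small_shapes (hp : p.Prime) (hp3 : 3 ≤ p) {w : Perm X} {k : ℕ} (hw : w ^ p ^ k = 1)
    (hw1 : w ≠ 1) (hall : ∀ y, per w y < 5) (hn : 5 ≤ Fintype.card X) :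
    p = 3 ∧ (∃ h : Perm X, Perm.sign h = -1 ∧ h * w = w * h) ∧
      ((∃ E, Blocks w [3, 3] E Finset.univ) ∨
        ((∃ E, Blocks w [3, 1, 1] E Finset.univ) ∧
          (6 ≤ Fintype.card X → ∃ E, Blocks w [3, 1, 1, 1] E Finset.univ))) := by
  obtain ⟨x1, hx1⟩ := exists_per_ne_one hw1
  have hval : ∀ y, per w y = 1 ∨ per w y = 3 := fun y =>
    (per_small hp hp3 hw (hall y)).imp_right And.left
  have hl1 : per w x1 = 3 := (hval x1).resolve_left hx1
  refine ⟨((per_small hp hp3 hw (hall x1)).resolve_left hx1).2, ?_⟩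
  have hi0 := inv_univ w
  have hc1 := card_sdiff_orb hi0 (Finset.mem_univ x1)
  rw [Finset.card_univ] at hc1
  set S1 := Finset.univ \ orb w x1 with hS1
  have hi1 : Inv w S1 := hi0.sdiff x1
  by_cases h2 : ∃ x2 ∈ S1, per w x2 = 3
  · obtain ⟨x2, hx2, hl2⟩ := h2
    refine ⟨exists_odd_commute (Finset.mem_sdiff.1 hx2).2 (hl1.trans hl2.symm) (by omega),
      Or.inl ?_⟩
    obtain ⟨E2, hB2⟩ := Blocks.cons hi1 hx2 (L := []) (E := fun _ => x1)
      ⟨fun a ha => by simp at ha, fun i hi => by simp at hi, fun i hi => by simp at hi⟩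
    obtain ⟨E1, hB1⟩ := Blocks.cons hi0 (Finset.mem_univ x1) hB2
    rw [hl1, hl2] at hB1
    exact ⟨E1, hB1⟩
  · push Not at h2
    have hone : ∀ y ∈ S1, per w y = 1 := fun y hy => (hval y).resolve_right (h2 y hy)
    obtain ⟨a, ha⟩ : S1.Nonempty := Finset.card_pos.1 (by omega)
    have hca := card_sdiff_orb hi1 ha
    obtain ⟨b, hb⟩ : (S1 \ orb w a).Nonempty := Finset.card_pos.1 (by rw [hone a ha] at hca; omega)
    refine ⟨exists_odd_commute (Finset.mem_sdiff.1 hb).2
      ((hone a ha).trans (hone b (Finset.mem_sdiff.1 hb).1).symm) (by rw [hone a ha]), Or.inr ?_⟩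
    have mk : ∀ T, T + 3 ≤ Fintype.card X →
        ∃ E, Blocks w (3 :: List.replicate T 1) E Finset.univ := by
      intro T hT
      obtain ⟨L, E, hsum, hmem, hB⟩ := fill hp hw x1 T S1 1 hi1
        (fun y hy => by rw [hone y hy]) (one_dvd _) (by omega)
      have hL1 : ∀ l ∈ L, l = 1 := fun l hl => by
        obtain ⟨y, hy, rfl⟩ := hmem l hl
        exact hone y hy
      have hlen := sum_ones L hL1
      have hL : L = List.replicate T 1 := List.eq_replicate_iff.2 ⟨by omega, hL1⟩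
      obtain ⟨E1, hB1⟩ := Blocks.cons hi0 (Finset.mem_univ x1) hB
      rw [hl1, hL] at hB1
      exact ⟨E1, hB1⟩
    exact ⟨mk 2 (by omega), fun h6 => mk 3 (by omega)⟩

theorem small_match {u w : Perm X} {Lu Lw : List ℕ} {M : ℕ} (c : ℕ → ℕ) (hLu : Lu.sum = M)
    (hLw : Lw.sum = M) {e E : ℕ → X} (hBu : Blocks u Lu e Finset.univ)
    (hBw : Blocks w Lw E Finset.univ) (hc : ∀ i, M ≤ i → c i = i)
    (hclt : ∀ i, i < M → c i < M) (hinj : ∀ i, i < M → ∀ j, j < M → c i = c j → i = j) :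
    ∃ g : Perm X, Set.InjOn e (Set.Iio M) ∧ Acts e M u (D Lu) ∧
      ∀ i, i < M → (g * w * g⁻¹) (e (c i)) = e (c (D Lw i)) := by
  have he : Set.InjOn e (Set.Iio M) := hLu ▸ hBu.inj
  obtain ⟨g, hg⟩ := match_window (hLw ▸ hBw.inj) he c le_rfl hc hclt hinj
  exact ⟨g, he, fun i hi => ⟨hLu ▸ D_lt Lu i (hLu.symm ▸ hi), hBu.act i (hLu.symm ▸ hi)⟩,
    conj_spec hBw hLw hg⟩

theorem card_ge_of_blocks {w : Perm X} {L : List ℕ} {E : ℕ → X} {S : Finset X}
    (h : Blocks w L E S) : L.sum ≤ Fintype.card X := by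
  have := Finset.card_le_card_of_injOn (s := Finset.range L.sum) (t := Finset.univ) E
    (fun _ _ => Finset.mem_coe.2 (Finset.mem_univ _)) (by rw [Finset.coe_range]; exact h.inj)
  simpa using this

/-- Both elements have all cycles of length at most three. -/
theorem exists_good_small (hp : p.Prime) (hp3 : 3 ≤ p) {u w : Perm X} {k m : ℕ}
    (hu : u ^ p ^ m = 1) (hw : w ^ p ^ k = 1) (hu1 : u ≠ 1) (hw1 : w ≠ 1)
    (hau : ∀ y, per u y < 5) (haw : ∀ y, per w y < 5) (hn : 5 ≤ Fintype.card X) :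
    ∃ g : Perm X, Perm.sign g = 1 ∧ Good p u (g * w * g⁻¹) := by
  obtain ⟨hp', hhu, hsu⟩ := small_shapes hp hp3 hu hu1 hau hn
  obtain ⟨-, hhw, hsw⟩ := small_shapes hp hp3 hw hw1 haw hn
  rcases hsu with ⟨eu, hBu⟩ | ⟨⟨eu, hBu⟩, hu6⟩ <;> rcases hsw with ⟨ew, hBw⟩ | ⟨⟨ew, hBw⟩, hw6⟩
  · obtain ⟨g, he, hU, hV⟩ := small_match (M := 6) (fun i => [0, 1, 3, 2, 5, 4].getD i i) rfl rfl
      hBu hBw (fun i hi => getD_self _ i (by simp; omega)) (by decide) (by decide)
    exact parity_fix hhw (good_small_33_33 he hp hp' hU hV)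
  · obtain ⟨ew', hBw'⟩ := hw6 (card_ge_of_blocks hBu)
    obtain ⟨g, he, hU, hV⟩ := small_match (M := 6) (fun i => [0, 1, 3, 2, 4, 5].getD i i) rfl rfl
      hBu hBw' (fun i hi => getD_self _ i (by simp; omega)) (by decide) (by decide)
    exact parity_fix hhw (good_small_33_3 he hp hp' hU hV)
  · obtain ⟨eu', hBu'⟩ := hu6 (card_ge_of_blocks hBw)
    obtain ⟨g, he, hU, hV⟩ := small_match (M := 6) (fun i => [0, 1, 3, 2, 4, 5].getD i i) rfl rfl
      hBw hBu' (fun i hi => getD_self _ i (by simp; omega)) (by decide) (by decide)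
    exact parity_fix hhw (good_small_33_3 he hp hp' hU hV).symm
  · obtain ⟨g, he, hU, hV⟩ := small_match (M := 5) (fun i => [0, 3, 4, 1, 2].getD i i) rfl rfl
      hBu hBw (fun i hi => getD_self _ i (by simp; omega)) (by decide) (by decide)
    exact parity_fix hhw (good_small_3_3 he hp hp' hU hV)

/-- The free pair theorem for permutations. -/
theorem exists_good (hp : p.Prime) (hp3 : 3 ≤ p) {u w : Perm X} {k m : ℕ}
    (hu : u ^ p ^ m = 1) (hw : w ^ p ^ k = 1) (hu1 : u ≠ 1) (hw1 : w ≠ 1)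
    (hn : 5 ≤ Fintype.card X) :
    ∃ g : Perm X, Perm.sign g = 1 ∧ Good p u (g * w * g⁻¹) := by
  have : Nonempty X := Fintype.card_pos_iff.1 (by omega)
  obtain ⟨x, -, hx⟩ := Finset.exists_max_image Finset.univ (per u) Finset.univ_nonempty
  obtain ⟨y, -, hy⟩ := Finset.exists_max_image Finset.univ (per w) Finset.univ_nonempty
  by_cases hxy : per w y ≤ per u x
  · by_cases h5 : 5 ≤ per u x
    · exact exists_good_big hp hp3 hu hw hw1 h5 fun z => (hy z (Finset.mem_univ _)).trans hxy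
    · exact exists_good_small hp hp3 hu hw hu1 hw1
        (fun z => lt_of_le_of_lt (hx z (Finset.mem_univ _)) (by omega))
        (fun z => lt_of_le_of_lt (hy z (Finset.mem_univ _)) (by omega)) hn
  · by_cases h5 : 5 ≤ per w y
    · obtain ⟨g, hs, hg⟩ := exists_good_big hp hp3 hw hu hu1 h5
        fun z => (hx z (Finset.mem_univ _)).trans (by omega)
      exact ⟨g⁻¹, by rw [map_inv, hs, inv_one], hg.symm⟩
    · exact exists_good_small hp hp3 hu hw hu1 hw1
        (fun z => lt_of_le_of_lt (hx z (Finset.mem_univ _)) (by omega))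
        (fun z => lt_of_le_of_lt (hy z (Finset.mem_univ _)) (by omega)) hn

end Cfsg.FreePair2276
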