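import Cfsg.Agent.FreePair2276.Basic

/-!
# Free pairs in alternating groups: permutations described on an enumerated invariant set
-/

namespace Cfsg.FreePair2276

open Equiv
open scoped commutatorElement

variable {X : Type*} {e : ℕ → X} {M : ℕ}

/-- `g` acts on the listed points `e 0, …, e (M-1)` through the index map `A`. -/
def Acts (e : ℕ → X) (M : ℕ) (g : Perm X) (A : ℕ → ℕ) : Prop :=
  ∀ i, i < M → A i < M ∧ g (e i) = e (A i)

theorem Acts.mul {g h : Perm X} {A B : ℕ → ℕ} (hg : Acts e M g A) (hh : Acts e M h B) :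
    Acts e M (g * h) (fun i => A (B i)) := by
  intro i hi
  obtain ⟨h1, h2⟩ := hh i hi
  exact ⟨(hg _ h1).1, by rw [Perm.mul_apply, h2, (hg _ h1).2]⟩

theorem Acts.inv {g : Perm X} {A : ℕ → ℕ} (hg : Acts e M g A) (A' : ℕ → ℕ)
    (h : ∀ i, i < M → A' i < M ∧ A (A' i) = i) : Acts e M g⁻¹ A' := by
  intro i hi
  obtain ⟨h1, h2⟩ := h i hi
  refine ⟨h1, ?_⟩
  rw [Perm.inv_eq_iff_eq, (hg _ h1).2, h2]

theorem Acts.congr {g : Perm X} {A B : ℕ → ℕ} (hg : Acts e M g A)
    (h : ∀ i, i < M → A i = B i) : Acts e M g B := by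
  intro i hi; rw [← h i hi]; exact hg i hi

theorem Acts.pow {g : Perm X} {A : ℕ → ℕ} (hg : Acts e M g A) :
    ∀ k : ℕ, Acts e M (g ^ k) (A^[k])
  | 0 => fun i hi => ⟨hi, rfl⟩
  | k + 1 => by
    rw [pow_succ', Function.iterate_succ']
    exact hg.mul (Acts.pow hg k)

theorem mem_iff_of_acts {g : Perm X} {A : ℕ → ℕ} (hg : Acts e M g A) (z : X) :
    g z ∈ e '' Set.Iio M ↔ z ∈ e '' Set.Iio M := by
  set S := e '' Set.Iio M with hS
  have hfin : S.Finite := (Set.finite_Iio M).image e
  have hsub : g '' S ⊆ S := by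
    rintro _ ⟨_, ⟨i, hi, rfl⟩, rfl⟩
    exact ⟨A i, (hg i hi).1, ((hg i hi).2).symm⟩
  have heq : g '' S = S :=
    Set.eq_of_subset_of_ncard_le hsub (by rw [Set.ncard_image_of_injective _ g.injective]) hfin
  constructor
  · intro h
    rw [← heq] at h
    obtain ⟨w, hw, hwz⟩ := h
    rwa [g.injective hwz] at hw
  · intro h
    exact hsub ⟨z, h, rfl⟩

/-- The restriction of the group generated by `u, v` to the listed points. -/
theorem exists_restrict {u v : Perm X} {U V : ℕ → ℕ} (hu : Acts e M u U) (hv : Acts e M v V) :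
    ∃ φ : Subgroup.closure ({u, v} : Set (Perm X)) →* Perm ↥(e '' Set.Iio M),
      ∀ g z, ((φ g z : ↥(e '' Set.Iio M)) : X) = (g : Perm X) (z : X) := by
  have hinv : ∀ g ∈ Subgroup.closure ({u, v} : Set (Perm X)),
      ∀ z, g z ∈ e '' Set.Iio M ↔ z ∈ e '' Set.Iio M := by
    intro g hg
    induction hg using Subgroup.closure_induction with
    | mem g hg =>
      rcases hg with rfl | rfl
      · exact mem_iff_of_acts hu
      · exact mem_iff_of_acts hv
    | one => simp
    | mul a b _ _ iha ihb => intro z; rw [Perm.mul_apply, iha, ihb]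
    | inv a _ iha =>
      intro z
      have := iha (a⁻¹ z)
      simp only [Perm.coe_inv, Equiv.apply_symm_apply] at this
      simp only [Perm.coe_inv]
      exact this.symm
  refine ⟨{ toFun := fun g => (g : Perm X).subtypePerm (hinv g g.2)
            map_one' := ?_
            map_mul' := ?_ }, fun g z => rfl⟩
  · ext z; rfl
  · intro a b; ext z; rfl

/-- Non-solvability from two elements meeting in one listed point. -/
theorem not_isSolvable_of_acts (he : Set.InjOn e (Set.Iio M)) {u v : Perm X} {U V : ℕ → ℕ}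
    (hu : Acts e M u U) (hv : Acts e M v V) {a b : Perm X}
    (ha : a ∈ Subgroup.closure ({u, v} : Set (Perm X)))
    (hb : b ∈ Subgroup.closure ({u, v} : Set (Perm X))) {A B : ℕ → ℕ}
    (hA : Acts e M a A) (hB : Acts e M b B) {c : ℕ} (hc : c < M)
    (hmeet : ∀ i, i < M → A i ≠ i → B i ≠ i → i = c)
    (h1 : A c ≠ c) (h2 : B c ≠ c) (h3 : A (A c) ≠ c) (h4 : B (B c) ≠ c) :
    ¬ Group.IsSolvable (Subgroup.closure ({u, v} : Set (Perm X))) := by
  intro hs
  obtain ⟨φ, hφ⟩ := exists_restrict hu hv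
  have := hs
  have hrange : Group.IsSolvable φ.range :=
    Group.isSolvable_of_surjective φ.rangeRestrict_surjective
  let c' : ↥(e '' Set.Iio M) := ⟨e c, c, hc, rfl⟩
  have key : ∀ (g : Perm X) (hg : g ∈ Subgroup.closure ({u, v} : Set (Perm X))) (G : ℕ → ℕ),
      Acts e M g G → ∀ (i : ℕ) (hi : i < M),
        (φ ⟨g, hg⟩ ⟨e i, i, hi, rfl⟩ = ⟨e i, i, hi, rfl⟩ ↔ G i = i) := by
    intro g hg G hG i hi
    constructor
    · intro h
      have := congrArg Subtype.val h
      rw [hφ] at this
      exact he (hG i hi).1 hi ((hG i hi).2.symm.trans this)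
    · intro h
      apply Subtype.ext
      rw [hφ]
      simp only [(hG i hi).2, h]
  refine not_isSolvable_of_meet φ.range (a := φ ⟨a, ha⟩) (b := φ ⟨b, hb⟩) (c := c')
    ⟨_, rfl⟩ ⟨_, rfl⟩ ?_ ?_ ?_ ?_ ?_ hrange
  · rintro ⟨_, i, hi, rfl⟩ ha' hb'
    have := hmeet i hi (fun h => ha' ((key a ha A hA i hi).2 h))
      (fun h => hb' ((key b hb B hB i hi).2 h))
    subst this; rfl
  · exact fun h => h1 ((key a ha A hA c hc).1 h)
  · exact fun h => h2 ((key b hb B hB c hc).1 h)
  · intro h
    apply h3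
    have := congrArg Subtype.val h
    rw [hφ, hφ] at this
    have hh := (hA.mul hA) c hc
    exact he hh.1 hc (hh.2.symm.trans (by simpa using this))
  · intro h
    apply h4
    have := congrArg Subtype.val h
    rw [hφ, hφ] at this
    have hh := (hB.mul hB) c hc
    exact he hh.1 hc (hh.2.symm.trans (by simpa using this))

/-- Non-solvability from commutator identities that hold on the listed points. -/
theorem not_isSolvable_of_words {u v : Perm X} {U V : ℕ → ℕ}
    (hu : Acts e M u U) (hv : Acts e M v V) {i₀ : ℕ} (hi₀ : i₀ < M) (hne : u (e i₀) ≠ e i₀)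
    (g₁ g₂ g₃ g₄ : Perm X)
    (m₁ : g₁ ∈ Subgroup.closure ({u, v} : Set (Perm X)))
    (m₂ : g₂ ∈ Subgroup.closure ({u, v} : Set (Perm X)))
    (m₃ : g₃ ∈ Subgroup.closure ({u, v} : Set (Perm X)))
    (m₄ : g₄ ∈ Subgroup.closure ({u, v} : Set (Perm X)))
    (hx : Acts e M ⁅g₁ * u * g₁⁻¹, g₂ * u⁻¹ * g₂⁻¹⁆ U)
    (z : Perm X) (hz : z = u ∨ z = v)
    (hy : Acts e M ⁅g₃ * v * g₃⁻¹, g₄ * z⁻¹ * g₄⁻¹⁆ V) :
    ¬ Group.IsSolvable (Subgroup.closure ({u, v} : Set (Perm X))) := by
  intro hs
  obtain ⟨φ, hφ⟩ := exists_restrict hu hv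
  have := hs
  have hrange : Group.IsSolvable φ.range :=
    Group.isSolvable_of_surjective φ.rangeRestrict_surjective
  have hum : u ∈ Subgroup.closure ({u, v} : Set (Perm X)) := Subgroup.subset_closure (by simp)
  have hvm : v ∈ Subgroup.closure ({u, v} : Set (Perm X)) := Subgroup.subset_closure (by simp)
  set x := φ.rangeRestrict ⟨u, hum⟩ with hxdef
  set y := φ.rangeRestrict ⟨v, hvm⟩ with hydef
  refine not_isSolvable_of_commutator (x := x) (y := y) ?_ ?_ hrange
  · intro h
    apply hne
    have h' : φ ⟨u, hum⟩ = 1 := congrArg Subtype.val h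
    have := hφ ⟨u, hum⟩ ⟨e i₀, i₀, hi₀, rfl⟩
    rw [h'] at this
    exact this.symm
  · intro N hN hxN hyN
    have agree : ∀ (g h : Perm X) (hg : g ∈ Subgroup.closure ({u, v} : Set (Perm X)))
        (hh : h ∈ Subgroup.closure ({u, v} : Set (Perm X))) (A : ℕ → ℕ),
        Acts e M g A → Acts e M h A →
          φ.rangeRestrict ⟨g, hg⟩ = φ.rangeRestrict ⟨h, hh⟩ := by
      intro g h hg hh A h1 h2
      apply Subtype.ext
      show φ ⟨g, hg⟩ = φ ⟨h, hh⟩
      ext ⟨_, i, hi, rfl⟩
      rw [hφ, hφ]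
      exact (h1 i hi).2.trans (h2 i hi).2.symm
    let w₁ : Subgroup.closure ({u, v} : Set (Perm X)) := ⟨g₁, m₁⟩
    let w₂ : Subgroup.closure ({u, v} : Set (Perm X)) := ⟨g₂, m₂⟩
    let w₃ : Subgroup.closure ({u, v} : Set (Perm X)) := ⟨g₃, m₃⟩
    let w₄ : Subgroup.closure ({u, v} : Set (Perm X)) := ⟨g₄, m₄⟩
    let uu : Subgroup.closure ({u, v} : Set (Perm X)) := ⟨u, hum⟩
    let vv : Subgroup.closure ({u, v} : Set (Perm X)) := ⟨v, hvm⟩
    constructor
    · have := comm_mem hN hxN (inv_mem hxN) (φ.rangeRestrict w₁) (φ.rangeRestrict w₂)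
      rw [hxdef, ← map_inv φ.rangeRestrict uu, ← map_mul, ← map_inv, ← map_mul, ← map_mul,
        ← map_inv, ← map_mul, ← map_commutatorElement] at this
      rw [hxdef]
      convert this using 1
      exact (agree _ _ (⁅w₁ * uu * w₁⁻¹, w₂ * uu⁻¹ * w₂⁻¹⁆).2 hum U
        (by simpa [w₁, w₂, uu, commutatorElement_def] using hx) hu).symm
    · have hzm : z ∈ Subgroup.closure ({u, v} : Set (Perm X)) := by
        rcases hz with rfl | rfl <;> assumption
      have hzN : φ.rangeRestrict ⟨z, hzm⟩ ∈ N := by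
        rcases hz with rfl | rfl
        · exact hxN
        · exact hyN
      let zz : Subgroup.closure ({u, v} : Set (Perm X)) := ⟨z, hzm⟩
      have := comm_mem hN hyN (inv_mem hzN) (φ.rangeRestrict w₃) (φ.rangeRestrict w₄)
      rw [hydef, ← map_inv φ.rangeRestrict zz, ← map_mul, ← map_inv, ← map_mul, ← map_mul,
        ← map_inv, ← map_mul, ← map_commutatorElement] at this
      rw [hydef]
      convert this using 1
      exact (agree _ _ (⁅w₃ * vv * w₃⁻¹, w₄ * zz⁻¹ * w₄⁻¹⁆).2 hvm V
        (by simpa [w₃, w₄, zz, vv, commutatorElement_def] using hy) hv).symm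

/-- The conclusion wanted for a pair of permutations. -/
def Good (p : ℕ) (u v : Perm X) : Prop :=
  (∀ k : ℕ, (u * v) ^ p ^ k ≠ 1) ∧
    ¬ Group.IsSolvable (Subgroup.closure ({u, v} : Set (Perm X)))

/-- Not a `p`-element, read off from one listed point. -/
theorem pow_ne_one_of_acts (he : Set.InjOn e (Set.Iio M)) {p : ℕ} (hp : p.Prime) {g : Perm X}
    {A : ℕ → ℕ} (hA : Acts e M g A) {i d : ℕ} (hi : i < M) (hne : A i ≠ i)
    (hd : A^[d] i = i) (hpd : ¬ p ∣ d) (k : ℕ) : g ^ p ^ k ≠ 1 := by
  intro hg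
  apply hne
  have h : g (e i) = e i := by
    apply eq_of_iterate_eq hp hg _ hpd
    rw [((hA.pow d) i hi).2, hd]
  exact he (hA i hi).1 hi ((hA i hi).2.symm.trans h)

/-! ### Blocks of decreasing intervals -/

/-- The permutation of `ℕ` that cycles each of the consecutive intervals of lengths given by the
list downwards. -/
def D : List ℕ → ℕ → ℕ
  | [], i => i
  | l :: L, i => if i < l then (if i = 0 then l - 1 else i - 1) else l + D L (i - l)

theorem D_append : ∀ (P Q : List ℕ) (i : ℕ),
    D (P ++ Q) i = if i < P.sum then D P i else P.sum + D Q (i - P.sum)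
  | [], Q, i => by simp
  | l :: P, Q, i => by
    have ih := D_append P Q (i - l)
    simp only [Nat.sub_sub] at ih
    simp only [List.cons_append, D, List.sum_cons]
    rw [ih]
    split_ifs <;> omega

theorem D_lt : ∀ (L : List ℕ) (i : ℕ), i < L.sum → D L i < L.sum
  | [], i, h => by simp at h
  | l :: L, i, h => by
    simp only [D, List.sum_cons] at h ⊢
    split_ifs with h1 h2
    · omega
    · omega
    · have := D_lt L (i - l) (by omega); omega

/-- Along the starts of the intervals, `f` is a chain; all other points are fixed. -/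
theorem chain {f : X → X} : ∀ (Q : List ℕ), (∀ l ∈ Q, 0 < l) → ∀ (m : ℕ),
    (∀ i, i < Q.sum → f (e ((m + i) % M)) = e ((m + D Q i + 1) % M)) →
    (∀ i, i < Q.sum → f (e ((m + i) % M)) = e ((m + i) % M) ∨
        ∃ t, f^[t] (e (m % M)) = e ((m + i) % M)) ∧
      f^[Q.length] (e (m % M)) = e ((m + Q.sum) % M)
  | [], _, m, _ => by simp
  | l :: Q, hpos, m, h => by
    have hl : 0 < l := hpos l (by simp)
    have hstep : f (e (m % M)) = e ((m + l) % M) := by
      have := h 0 (by simp; omega)
      simp only [D, hl, if_true, Nat.add_zero] at this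
      rw [this, show m + (l - 1) + 1 = m + l by omega]
    have ih := chain (f := f) Q (fun x hx => hpos x (by simp [hx])) (m + l) (fun i hi => by
      have := h (l + i) (by simp; omega)
      simp only [D, show ¬ l + i < l by omega, if_false, Nat.add_sub_cancel_left] at this
      rw [show m + l + i = m + (l + i) by omega, this,
        show m + (l + D Q i) + 1 = m + l + D Q i + 1 by omega])
    refine ⟨fun i hi => ?_, ?_⟩
    · by_cases h0 : i = 0
      · subst h0
        exact Or.inr ⟨0, by simp⟩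
      · by_cases hil : i < l
        · left
          have := h i hi
          simp only [D, hil, if_true, h0, if_false] at this
          rw [this, show m + (i - 1) + 1 = m + i by omega]
        · rcases ih.1 (i - l) (by simp at hi; omega) with h1 | ⟨t, ht⟩
          · left
            rwa [show m + l + (i - l) = m + i by omega] at h1
          · right
            refine ⟨t + 1, ?_⟩
            rw [Function.iterate_succ_apply, hstep, ht, show m + l + (i - l) = m + i by omega]
    · rw [List.length_cons, Function.iterate_succ_apply, hstep, ih.2, List.sum_cons,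
        show m + l + Q.sum = m + (l + Q.sum) by omega]

/-- Shift by one on the `M` indices. -/
def U (M : ℕ) (i : ℕ) : ℕ := (i + 1) % M

/-- Description of a power of `u * v` when `v` is given by intervals rearranged inside a window. -/
theorem window {u v : Perm X} (P Q : List ℕ) (m : ℕ) (hPm : P.sum = m) (hm : 0 < m)
    (hM : m + Q.sum = M) (hQ : ∀ l ∈ Q, 0 < l)
    (c : ℕ → ℕ) (W : ℕ → ℕ) (hc : ∀ i, m ≤ i → c i = i)
    (hsurj : ∀ j, j < m → ∃ i, i < m ∧ c i = j)
    (hW : ∀ i, i < m → c (D P i) + 1 = if c i = 0 then m else W (c i))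
    (hWlt : ∀ j, 0 < j → j < m → 0 < W j ∧ W j < m)
    (hu : Acts e M u (U M))
    (hv : ∀ i, i < M → v (e (c i)) = e (c (D (P ++ Q) i)))
    (hclt : ∀ i, i < m → c i < m) :
    (∀ j, 0 < j → j < m → (u * v) (e j) = e (W j)) ∧ (u * v) (e 0) = e (m % M) ∧
    (⇑(u * v))^[Q.length + 1] (e 0) = e 0 ∧
    Acts e M ((u * v) ^ (Q.length + 1))
      (fun i => if 0 < i ∧ i < m then W^[Q.length + 1] i else i) := by
  set π : Perm X := u * v with hπ
  have hπi : ∀ i, i < M → π (e (c i)) = e ((c (D (P ++ Q) i) + 1) % M) := by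
    intro i hi
    have hlt : c (D (P ++ Q) i) < M := by
      have hd : D (P ++ Q) i < M := by
        have := D_lt (P ++ Q) i (by rw [List.sum_append, hPm, hM]; exact hi)
        rwa [List.sum_append, hPm, hM] at this
      by_cases h : D (P ++ Q) i < m
      · have := hclt _ h; omega
      · rw [hc _ (by omega)]; exact hd
    rw [hπ, Perm.mul_apply, hv i hi, (hu _ hlt).2]
    rfl
  have h1 : ∀ j, 0 < j → j < m → π (e j) = e (W j) := by
    intro j hj0 hjm
    obtain ⟨i, hi, rfl⟩ := hsurj j hjm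
    rw [hπi i (by omega), D_append, hPm, if_pos hi, hW i hi, if_neg (by omega)]
    rw [Nat.mod_eq_of_lt]
    have := hWlt _ hj0 hjm; omega
  have h0 : π (e 0) = e (m % M) := by
    obtain ⟨i, hi, hi0⟩ := hsurj 0 hm
    rw [← hi0, hπi i (by omega), D_append, hPm, if_pos hi, hW i hi, if_pos hi0]
  have hch := chain (e := e) (M := M) (f := ⇑π) Q hQ m (fun i hi => by
    have := hπi (m + i) (by omega)
    rw [hc (m + i) (by omega), D_append, hPm, if_neg (by omega), Nat.add_sub_cancel_left,
      hc (m + D Q i) (by omega)] at this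
    rwa [Nat.mod_eq_of_lt (show m + i < M by omega)])
  have hper : (⇑π)^[Q.length + 1] (e 0) = e 0 := by
    rw [Function.iterate_succ_apply, h0, hch.2, hM, Nat.mod_self]
  refine ⟨h1, h0, hper, ?_⟩
  have hit : ∀ t j, 0 < j → j < m → (⇑π)^[t] (e j) = e (W^[t] j) ∧ 0 < W^[t] j ∧ W^[t] j < m := by
    intro t
    induction t with
    | zero => intro j h h'; exact ⟨rfl, h, h'⟩
    | succ t ih =>
      intro j h h'
      obtain ⟨e1, e2, e3⟩ := ih j h h'
      rw [Function.iterate_succ_apply', Function.iterate_succ_apply', e1, h1 _ e2 e3]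
      exact ⟨rfl, hWlt _ e2 e3⟩
  intro i hi
  rw [Perm.coe_pow]
  dsimp only
  by_cases hcase : 0 < i ∧ i < m
  · rw [if_pos hcase]
    obtain ⟨e1, -, e3⟩ := hit (Q.length + 1) i hcase.1 hcase.2
    exact ⟨by omega, e1⟩
  · rw [if_neg hcase]
    refine ⟨hi, ?_⟩
    rcases Nat.eq_zero_or_pos i with rfl | hpos
    · exact hper
    · have him : m ≤ i := by omega
      rcases hch.1 (i - m) (by omega) with h | ⟨t, ht⟩
      · rw [show m + (i - m) = i by omega, Nat.mod_eq_of_lt hi] at h
        exact Function.iterate_fixed h _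
      · rw [show m + (i - m) = i by omega, Nat.mod_eq_of_lt hi, ← h0,
          ← Function.iterate_succ_apply] at ht
        rw [← ht, ← Function.iterate_add_apply, Nat.add_comm, Function.iterate_add_apply, hper]

end Cfsg.FreePair2276
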